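import Mathlib
import Cfsg.Prelude.Def_BlockRank
import Cfsg.Agent.H608.BlockRank
import Cfsg.Agent.H634.Cols
import Cfsg.Agent.H590.RankOne
import Cfsg.Agent.Blocks.QuaternionCount
import Cfsg.Agent.Blocks.Knorr
import Cfsg.Agent.S0960
import Cfsg.Agent.S0914

/-!
# Sylow `p`-subgroups of order `p` all of whose nontrivial elements are conjugate (helper970, for S4877, S4879, S4880)

* `relIndex_eq`, `conj_of_relIndex` : the nontrivial `p`-elements are conjugate iff `|N(P) : C(P)| = p - 1`;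
* `blockRank_eq` : then `l(B₀) = p - 1`;
* `card_of_degree` : if moreover some character degree is divisible by `p`, there are at least `p` classes of
  `p`-regular elements.
-/

set_option autoImplicit false

namespace Cfsg.Agent.H970.CycOne

open Subgroup MulAction Cfsg Cfsg.Agent.H608.BlockRank

section group

variable {G : Type*} [Group G] [Finite G] {p : ℕ} [hp : Fact p.Prime] {P : Sylow p G}

/-- the orbit of `x ∈ P` under `N(P)` -/
theorem orbit_card (hP : Nat.card (P : Subgroup G) = p) {x : G} (hx : x ∈ P) (hx1 : x ≠ 1) :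
    {y : G | ∃ n ∈ normalizer ((P : Subgroup G) : Set G), n * x * n⁻¹ = y}.ncard =
      (centralizer ((P : Subgroup G) : Set G)).relIndex (normalizer ((P : Subgroup G) : Set G)) := by
  set N := normalizer ((P : Subgroup G) : Set G) with hN
  let _ : MulAction ↥N G := MulAction.compHom G ((MulAut.conj : G →* MulAut G).comp N.subtype)
  have hsm : ∀ (n : ↥N) (g : G), n • g = (n : G) * g * (n : G)⁻¹ := fun _ _ => rfl
  have h1 : {y : G | ∃ n ∈ N, n * x * n⁻¹ = y} = orbit ↥N x := by
    ext y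
    constructor
    · rintro ⟨n, hn, rfl⟩; exact ⟨⟨n, hn⟩, rfl⟩
    · rintro ⟨n, rfl⟩; exact ⟨n, n.2, rfl⟩
  have hz : zpowers x = (P : Subgroup G) := by
    refine Subgroup.eq_of_le_of_card_ge (zpowers_le.2 hx) ?_
    rw [hP]
    have h2 : Nat.card (zpowers x) ∣ p := by
      rw [← hP]; exact card_dvd_of_le (zpowers_le.2 hx)
    rcases (Nat.dvd_prime hp.out).1 h2 with h | h
    · exact absurd (by rwa [Nat.card_zpowers, orderOf_eq_one_iff] at h) hx1
    · exact h.ge
  have h2 : (centralizer ((P : Subgroup G) : Set G)).subgroupOf N = stabilizer ↥N x := by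
    ext n
    rw [mem_subgroupOf, mem_stabilizer_iff, hsm, mul_inv_eq_iff_eq_mul]
    constructor
    · intro h
      exact (h x hx).symm
    · intro h
      rw [← hz, mem_centralizer_iff]
      rintro _ ⟨k, rfl⟩
      have h3 : Commute x (n : G) := h.symm
      exact h3.zpow_left k
  rw [h1, relIndex, h2, index_stabilizer]

omit [Finite G] hp in
theorem sub_compl {x : G} (hx : x ∈ P) (hx1 : x ≠ 1) :
    {y : G | ∃ n ∈ normalizer ((P : Subgroup G) : Set G), n * x * n⁻¹ = y} ⊆ ((P : Subgroup G) : Set G) \ {1} := by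
  rintro _ ⟨n, hn, rfl⟩
  refine ⟨(mem_normalizer_iff.1 hn x).1 hx, ?_⟩
  rw [Set.mem_singleton_iff, conj_eq_one_iff]
  exact hx1

omit [Finite G] hp in
theorem ncard_diff (hP : Nat.card (P : Subgroup G) = p) : (((P : Subgroup G) : Set G) \ {1}).ncard = p - 1 := by
  rw [Set.ncard_sdiff_singleton_of_mem (one_mem _)]
  congr 1

theorem exists_ne_one (hP : Nat.card (P : Subgroup G) = p) : ∃ x ∈ P, x ≠ 1 := by
  have : Nontrivial (P : Subgroup G) := by
    rw [← Finite.one_lt_card_iff_nontrivial, hP]; exact hp.out.one_lt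
  obtain ⟨x, hx⟩ := exists_ne (1 : (P : Subgroup G))
  exact ⟨x, x.2, fun h => hx (Subtype.ext h)⟩

end group

theorem relIndex_eq {G : Type*} [Group G] [Finite G] (p : ℕ) [Fact p.Prime] (P : Sylow p G)
    (hP : Nat.card (P : Subgroup G) = p)
    (hconj : ∀ x y : G, x ≠ 1 → y ≠ 1 → (∃ k : ℕ, orderOf x = p ^ k) → (∃ k : ℕ, orderOf y = p ^ k) → IsConj x y) :
    (Subgroup.centralizer ((P : Subgroup G) : Set G)).relIndex (Subgroup.normalizer ((P : Subgroup G) : Set G)) =
      p - 1 := by
  obtain ⟨x, hx, hx1⟩ := exists_ne_one hP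
  rw [← orbit_card hP hx hx1, ← ncard_diff hP]
  congr 1
  refine Set.Subset.antisymm (sub_compl hx hx1) ?_
  rintro y ⟨hy, hy1⟩
  have hpow : ∀ z ∈ P, ∃ k : ℕ, orderOf z = p ^ k := by
    intro z hz
    obtain ⟨k, hk⟩ := IsPGroup.iff_orderOf.1 P.isPGroup' ⟨z, hz⟩
    exact ⟨k, by rw [← hk]; exact (Subgroup.orderOf_coe (⟨z, hz⟩ : (P : Subgroup G)))⟩
  obtain ⟨g, hg⟩ := isConj_iff.1 (hconj x y hx1 hy1 (hpow x hx) (hpow y hy))
  have : IsCyclic (P : Subgroup G) := isCyclic_of_prime_card hP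
  have : IsMulCommutative (P : Subgroup G) := ⟨⟨IsCyclic.commGroup.mul_comm⟩⟩
  have h1 : (g⁻¹)⁻¹ * x * g⁻¹ = y := by rw [inv_inv, hg]
  obtain ⟨n, hn, hn2⟩ := P.conj_eq_normalizer_conj_of_mem x g⁻¹ hx (by rw [h1]; exact hy)
  refine ⟨n⁻¹, inv_mem hn, ?_⟩
  rw [inv_inv, ← hn2, h1]

theorem conj_of_relIndex {G : Type*} [Group G] [Finite G] (p : ℕ) [Fact p.Prime] (P : Sylow p G)
    (hP : Nat.card (P : Subgroup G) = p)
    (he : (Subgroup.centralizer ((P : Subgroup G) : Set G)).relIndex
      (Subgroup.normalizer ((P : Subgroup G) : Set G)) = p - 1) {x y : G} (hx1 : x ≠ 1) (hy1 : y ≠ 1)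
    (hx : ∃ k : ℕ, orderOf x = p ^ k) (hy : ∃ k : ℕ, orderOf y = p ^ k) : IsConj x y := by
  have key : ∀ z : G, z ≠ 1 → (∃ k : ℕ, orderOf z = p ^ k) → ∃ z' ∈ P, z' ≠ 1 ∧ IsConj z z' := by
    rintro z hz1 ⟨k, hk⟩
    have hZ : IsPGroup p (zpowers z) := IsPGroup.of_card (n := k) (by rw [Nat.card_zpowers, hk])
    obtain ⟨S, hS⟩ := hZ.exists_le_sylow
    obtain ⟨g, hg⟩ := MulAction.exists_smul_eq G S P
    refine ⟨g * z * g⁻¹, ?_, ?_, isConj_iff.2 ⟨g, rfl⟩⟩
    · rw [← hg]
      exact Subgroup.smul_mem_pointwise_smul z (MulAut.conj g) (S : Subgroup G) (hS (mem_zpowers z))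
    · intro h
      exact hz1 (conj_eq_one_iff.1 h)
  have main : ∀ z ∈ P, z ≠ 1 → ∀ w ∈ P, w ≠ 1 → IsConj z w := by
    intro z hz hz1 w hw hw1
    have h1 := orbit_card hP hz hz1
    rw [he, ← ncard_diff hP] at h1
    have h2 := Set.eq_of_subset_of_ncard_le (sub_compl hz hz1) h1.ge (Set.toFinite _)
    have h3 : w ∈ ((P : Subgroup G) : Set G) \ {1} := ⟨hw, hw1⟩
    rw [← h2] at h3
    obtain ⟨n, -, hn⟩ := h3
    exact isConj_iff.2 ⟨n, hn⟩
  obtain ⟨x', hx', hx'1, hxx⟩ := key x hx1 hx
  obtain ⟨y', hy', hy'1, hyy⟩ := key y hy1 hy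
  exact hxx.trans ((main x' hx' hx'1 y' hy' hy'1).trans hyy.symm)

/-- a group with a central Sylow subgroup -/
theorem index_of_central {H : Type*} [Group H] [Finite H] {p : ℕ} [Fact p.Prime] (S : Sylow p H)
    (h : (S : Subgroup H) ≤ center H) : ∃ k : ℕ, (pPrimeCore p H).index = p ^ k := by
  refine Cfsg.Agent.Blocks.QuaternionCount.exists_index_pPrimeCore S ?_
  intro x _
  rw [mem_centralizer_iff]
  intro y hy
  exact (mem_center_iff.1 (h hy) x).symm

/-- `l(B₀(C(x))) = 1` for `x` of order `p`, `p ∥ |G|` -/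
theorem rank_cent {G : Type*} [Group G] [Finite G] (p : ℕ) [hp : Fact p.Prime] (P : Sylow p G)
    (hP : Nat.card (P : Subgroup G) = p) (M : Ideal Cfsg.AlgInt) (hM : Cfsg.IsPModular p M) {x : G} (hx : x ∈ P)
    (hx1 : x ≠ 1) : Cfsg.blockRank p (Cfsg.principalBlock M ↥(centralizer ({x} : Set G))) = 1 := by
  refine H590.RankOne.blockRank_eq_one hM ?_
  have hz : zpowers x = (P : Subgroup G) := by
    refine Subgroup.eq_of_le_of_card_ge (zpowers_le.2 hx) ?_
    rw [hP]
    have h2 : Nat.card (zpowers x) ∣ p := by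
      rw [← hP]; exact card_dvd_of_le (zpowers_le.2 hx)
    rcases (Nat.dvd_prime hp.out).1 h2 with h | h
    · exact absurd (by rwa [Nat.card_zpowers, orderOf_eq_one_iff] at h) hx1
    · exact h.ge
  have hle : (P : Subgroup G) ≤ centralizer ({x} : Set G) := by
    rw [← hz, zpowers_le, mem_centralizer_singleton_iff]
  refine index_of_central (P.subtype hle) ?_
  intro y hy
  have hy' : (y : G) ∈ (P : Subgroup G) := hy
  rw [← hz] at hy'
  obtain ⟨k, hk⟩ := hy'
  rw [mem_center_iff]
  intro c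
  apply Subtype.ext
  have hc : Commute (c : G) x := mem_centralizer_singleton_iff.1 c.2
  have hk' : x ^ k = (y : G) := hk
  change (c : G) * y = y * c
  rw [← hk']
  exact (hc.zpow_right k)

theorem blockRank_eq {G : Type*} [Group G] [Finite G] (p : ℕ) [hp : Fact p.Prime] (P : Sylow p G)
    (hP : Nat.card (P : Subgroup G) = p) (M : Ideal Cfsg.AlgInt) (hM : Cfsg.IsPModular p M)
    (he : (Subgroup.centralizer ((P : Subgroup G) : Set G)).relIndex
      (Subgroup.normalizer ((P : Subgroup G) : Set G)) = p - 1) :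
    Cfsg.blockRank p (Cfsg.principalBlock M G) = p - 1 := by
  classical
  by_cases h2 : p = 2
  · subst h2
    refine H590.RankOne.blockRank_eq_one hM (Cfsg.Agent.Blocks.QuaternionCount.exists_index_pPrimeCore P ?_)
    exact relIndex_eq_one.1 he
  · obtain ⟨x, hx, hx1⟩ := exists_ne_one hP
    have hxo : ∃ k : ℕ, orderOf x = p ^ k := by
      obtain ⟨k, hk⟩ := IsPGroup.iff_orderOf.1 P.isPGroup' ⟨x, hx⟩
      exact ⟨k, by rw [← hk]; exact (Subgroup.orderOf_coe (⟨x, hx⟩ : (P : Subgroup G)))⟩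
    have h1o : ∃ k : ℕ, orderOf (1 : G) = p ^ k := ⟨0, by simp⟩
    have hcard := H634.Cols.card_principal_eq (G := G) hM ({1, x} : Finset G) (by
      intro y hy
      simp only [Finset.mem_insert, Finset.mem_singleton] at hy
      rcases hy with rfl | rfl
      · exact h1o
      · exact hxo) (by
      intro g hg
      by_cases hg1 : g = 1
      · subst hg1
        refine ⟨1, ⟨by simp, IsConj.refl _⟩, ?_⟩
        rintro y ⟨-, hy⟩
        exact isConj_one_right.1 hy
      · refine ⟨x, ⟨by simp, conj_of_relIndex p P hP he hg1 hx1 hg hxo⟩, ?_⟩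
        rintro y ⟨hy, hgy⟩
        simp only [Finset.mem_insert, Finset.mem_singleton] at hy
        rcases hy with rfl | rfl
        · exact absurd (isConj_one_right.1 hgy.symm) hg1
        · rfl)
    rw [Finset.sum_pair (Ne.symm hx1), rank_cent p P hP M hM hx hx1] at hcard
    have h3 : Cfsg.blockRank p (Cfsg.principalBlock M ↥(Subgroup.centralizer ({(1 : G)} : Set G))) =
        Cfsg.blockRank p (Cfsg.principalBlock M G) := by
      rw [← H634.Cols.finrank_secMap_principal hM h1o, H634.Cols.finrank_secMap_one]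
    have h4 := (S0960.result p M hM h2 P hP (p - 1) he).1
    have h5 := hp.out.two_le
    rw [Nat.div_self (by omega)] at h4
    rw [h3, h4] at hcard
    omega

/-- at most as many as there are classes of `p`-regular elements -/
theorem blockRank_univ_le {G : Type*} [Group G] [Finite G] (p : ℕ) :
    Cfsg.blockRank p (Set.univ : Set (IrrCharacter G)) ≤
      Nat.card {c : ConjClasses G // ∃ g : G, ConjClasses.mk g = c ∧ ¬ p ∣ orderOf g} := by
  classical
  have := Fintype.ofFinite G
  set R := {c : ConjClasses G // ∃ g : G, ConjClasses.mk g = c ∧ ¬ p ∣ orderOf g} with hR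
  have := Fintype.ofFinite R
  let f : R → G → ℂ := fun c g => if ConjClasses.mk g = c.1 then 1 else 0
  have hle : Submodule.span ℂ ((fun χ : IrrCharacter G => pRegularPart p (χ : G → ℂ)) ''
      (Set.univ : Set (IrrCharacter G))) ≤ Submodule.span ℂ (Set.range f) := by
    rw [Submodule.span_le]
    rintro _ ⟨χ, -, rfl⟩
    have h1 : pRegularPart p (χ : G → ℂ) = ∑ c : R, ((χ : G → ℂ) c.2.choose) • f c := by
      funext g
      rw [Finset.sum_apply]
      unfold pRegularPart
      by_cases hg : IsPRegular p g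
      · rw [if_pos hg, Finset.sum_eq_single (⟨ConjClasses.mk g, g, rfl, hg⟩ : R)]
        · set c : R := ⟨ConjClasses.mk g, g, rfl, hg⟩ with hc
          have h2 : ConjClasses.mk c.2.choose = ConjClasses.mk g := c.2.choose_spec.1
          obtain ⟨t, ht⟩ := isConj_iff.1 (ConjClasses.mk_eq_mk_iff_isConj.1 h2)
          have h3 : (χ : G → ℂ) g = (χ : G → ℂ) c.2.choose := by
            rw [← ht]
            exact Cfsg.Agent.Blocks.Basic.irr_isClassFunction χ.2 _ _
          rw [Pi.smul_apply, h3]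
          have h4 : f c g = 1 := if_pos rfl
          rw [h4, smul_eq_mul, mul_one]
        · intro c _ hc
          have h4 : f c g = 0 := if_neg fun h => hc (Subtype.ext h.symm)
          rw [Pi.smul_apply, h4, smul_zero]
        · intro h
          exact absurd (Finset.mem_univ _) h
      · rw [if_neg hg]
        symm
        refine Finset.sum_eq_zero fun c _ => ?_
        have h4 : f c g = 0 := by
          refine if_neg fun h => hg ?_
          obtain ⟨g', hg', hg'p⟩ := c.2
          obtain ⟨t, ht⟩ := isConj_iff.1 (ConjClasses.mk_eq_mk_iff_isConj.1 (hg'.trans h.symm))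
          show ¬ p ∣ orderOf g
          rw [← ht]
          have h5 : orderOf (t * g' * t⁻¹) = orderOf g' := (MulAut.conj t).orderOf_eq g'
          rwa [h5]
        rw [Pi.smul_apply, h4, smul_zero]
    rw [SetLike.mem_coe]
    change pRegularPart p (χ : G → ℂ) ∈ _
    rw [h1]
    exact Submodule.sum_mem _ fun c _ => Submodule.smul_mem _ _ (Submodule.subset_span ⟨c, rfl⟩)
  unfold blockRank
  refine (Submodule.finrank_mono hle).trans ?_
  rw [Nat.card_eq_fintype_card]
  exact finrank_range_le_card f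

theorem blockRank_mono {G : Type*} [Group G] [Finite G] (p : ℕ) {A B : Set (IrrCharacter G)} (h : A ⊆ B) :
    Cfsg.blockRank p A ≤ Cfsg.blockRank p B := by
  have := Fintype.ofFinite G
  unfold blockRank
  exact Submodule.finrank_mono (Submodule.span_mono (Set.image_mono h))

theorem blockRank_pos {G : Type*} [Group G] [Finite G] (p : ℕ) [Fact p.Prime] {B : Set (IrrCharacter G)}
    {χ : IrrCharacter G} (h : χ ∈ B) : 0 < Cfsg.blockRank p B := by
  have := Fintype.ofFinite G
  unfold blockRank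
  rw [Module.finrank_pos_iff_exists_ne_zero]
  refine ⟨⟨_, Submodule.subset_span ⟨χ, h, rfl⟩⟩, ?_⟩
  intro h0
  have h1 := congrFun (congrArg Subtype.val h0) (1 : G)
  have h2 : IsPRegular p (1 : G) := by
    change ¬ p ∣ orderOf (1 : G)
    rw [orderOf_one]
    exact (Fact.out : p.Prime).one_lt.ne' ∘ Nat.dvd_one.1
  obtain ⟨h3, h4, -⟩ := S0914.degree_spec χ
  have h5 : pRegularPart p (χ : G → ℂ) 1 = (χ : G → ℂ) 1 := by
    unfold pRegularPart
    rw [if_pos h2]
  have h6 : (χ : G → ℂ) 1 = 0 := h5.symm.trans h1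
  rw [h3] at h6
  exact h4.ne' (by exact_mod_cast h6)

theorem card_of_degree {G : Type*} [Group G] [Finite G] (p : ℕ) [hp : Fact p.Prime] (P : Sylow p G)
    (hP : Nat.card (P : Subgroup G) = p) (he : (Subgroup.centralizer ((P : Subgroup G) : Set G)).relIndex
      (Subgroup.normalizer ((P : Subgroup G) : Set G)) = p - 1) (χ : Cfsg.IrrCharacter G)
    (hχ : p ∣ Cfsg.charDegree (χ : G → ℂ)) :
    p ≤ Nat.card {c : ConjClasses G // ∃ g : G, ConjClasses.mk g = c ∧ ¬ p ∣ orderOf g} := by
  obtain ⟨M, hM⟩ := Cfsg.Agent.Blocks.Knorr.exists_isPModular p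
  have hMp := Cfsg.Agent.Blocks.Local.isPrime_of_isPModular hM
  have hB := blockRank_eq p P hP M hM he
  obtain ⟨hd1, hd0, hdd⟩ := S0914.degree_spec χ
  have hpp : ¬ p ∣ Nat.card G / Cfsg.charDegree (χ : G → ℂ) := by
    intro h
    have h1 : p ^ 2 ∣ Nat.card G := by
      rw [← Nat.mul_div_cancel' hdd, pow_two]
      exact mul_dvd_mul hχ h
    have h2 := P.pow_dvd_card_of_pow_dvd_card h1
    rw [hP] at h2
    have h3 := Nat.le_of_dvd hp.out.pos h2
    have h4 := hp.out.two_le
    nlinarith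
  have hs := (S0914.result p M hM χ).1 hpp
  have hblk : IsPBlock M ({χ} : Set (IrrCharacter G)) := ⟨χ, hs.symm⟩
  have hprin := Cfsg.Agent.Blocks.PrincipalSection.isPBlock_principalBlock (K := G) (M := M)
  have hdisj : Disjoint (Cfsg.principalBlock M G) {χ} := by
    rw [Set.disjoint_singleton_right]
    intro h
    have h1 := Cfsg.Agent.Blocks.Basic.isPBlock_eq_of_mem hprin hblk h (Set.mem_singleton χ)
    have h2 := Cfsg.Agent.Blocks.PrincipalSection.one_mem_principalBlock (K := G) (M := M)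
    rw [h1, Set.mem_singleton_iff] at h2
    rw [← h2] at hd1 hχ
    have h3 : Cfsg.charDegree (((⟨fun _ => 1, Cfsg.Agent.Blocks.Basic.isIrrCharacter_one⟩ : IrrCharacter G)) : G → ℂ) = 1 := by
      have h4 : ((Cfsg.charDegree (((⟨fun _ => 1, Cfsg.Agent.Blocks.Basic.isIrrCharacter_one⟩ :
        IrrCharacter G)) : G → ℂ) : ℕ) : ℂ) = 1 := hd1.symm
      exact_mod_cast h4
    rw [h3, Nat.dvd_one] at hχ
    exact hp.out.one_lt.ne' hχ
  have h1 := blockRank_union hM (isUnion_of_isPBlock hprin) (isUnion_of_isPBlock hblk) hdisj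
  have h2 := blockRank_mono p (Set.subset_univ (Cfsg.principalBlock M G ∪ {χ}))
  have h3 := blockRank_pos p (Set.mem_singleton χ)
  have h4 := blockRank_univ_le (G := G) p
  have h5 := hp.out.two_le
  omega

end Cfsg.Agent.H970.CycOne
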