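import Mathlib
import Cfsg.Agent.PLocal.CoprimeLift
import Cfsg.Agent.Classification.QDW.FuCop

/-!
# Structure of a finite group with a Sylow `p`-subgroup `P` of order `p` (helper970)

`exists_struct` : `|H| = a·s·c`, `|N_H(P)| = c·D·p·m`, where `L` is the normal closure of `P`, `R` is a maximal normal
`p'`-subgroup of `L`, `a = |R|`, `L/R` is simple of order `s` (`s = p` or non-abelian), `c = |H : L|`, `D = |C_R(P)|`,
`m = |N_{L/R}(PR/R) : PR/R|`; for every prime `r ≠ p` the `r`-part of `a` is congruent to a power `r^j` dividing `D`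
modulo `p`.
-/

set_option autoImplicit false

namespace Cfsg.Agent.H970.StabK

open Subgroup MulAction

universe u

section A

variable {L : Type u} [Group L] {p : ℕ} [hp : Fact p.Prime]

/-- elements of a normal `p'`-subgroup normalizing `P` centralize `P` -/
theorem comm_of_mem {P R : Subgroup L} [R.Normal] (hP : Nat.card P = p) (hR : ¬ p ∣ Nat.card R) {x : L}
    (hxR : x ∈ R) (hxN : x ∈ normalizer (P : Set L)) {y : L} (hy : y ∈ P) : x * y = y * x := by
  have hdis : P ⊓ R = ⊥ := by
    apply Subgroup.eq_bot_of_card_eq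
    have h1 : Nat.card (P ⊓ R : Subgroup L) ∣ p := by
      have := Subgroup.card_dvd_of_le (inf_le_left : P ⊓ R ≤ P)
      rwa [hP] at this
    have h2 : Nat.card (P ⊓ R : Subgroup L) ∣ Nat.card R := Subgroup.card_dvd_of_le inf_le_right
    rcases (Nat.dvd_prime hp.out).1 h1 with h | h
    · exact h
    · exact absurd (h ▸ h2) hR
  have h1 : x * y * x⁻¹ * y⁻¹ ∈ P ⊓ R := by
    refine ⟨P.mul_mem ((Subgroup.mem_normalizer_iff.1 hxN y).1 hy) (P.inv_mem hy), ?_⟩
    have h2 : x * y * x⁻¹ * y⁻¹ = x * (y * x⁻¹ * y⁻¹) := by group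
    rw [h2]
    exact R.mul_mem hxR (Subgroup.Normal.conj_mem inferInstance _ (R.inv_mem hxR) y)
  rw [hdis, Subgroup.mem_bot] at h1
  have h3 : x * y * x⁻¹ = y := by
    rw [mul_inv_eq_one] at h1
    exact h1
  rw [mul_inv_eq_iff_eq_mul] at h3
  exact h3

variable [Finite L]

omit [Finite L] in
theorem inf_le_cent {P R : Subgroup L} [R.Normal] (hP : Nat.card P = p) (hR : ¬ p ∣ Nat.card R) :
    R ⊓ normalizer (P : Set L) ≤ centralizer (P : Set L) := by
  intro x hx
  rw [Subgroup.mem_centralizer_iff]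
  intro y hy
  exact (comm_of_mem hP hR hx.1 hx.2 hy).symm

theorem card_normalizer {P R : Subgroup L} [R.Normal] (hP : Nat.card P = p) (hR : ¬ p ∣ Nat.card R) :
    Nat.card (normalizer (P : Set L)) = Nat.card (R ⊓ normalizer (P : Set L) : Subgroup L) *
      Nat.card (normalizer ((P.map (QuotientGroup.mk' R) : Subgroup (L ⧸ R)) : Set (L ⧸ R))) := by
  have hcop : (Nat.card R).Coprime p := ((Nat.Prime.coprime_iff_not_dvd hp.out).2 hR).symm
  have hPp : IsPGroup p P := IsPGroup.of_card (n := 1) (by rw [hP, pow_one])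
  have h1 := Cfsg.Agent.PLocal.CoprimeLift.map_normalizer_mk R P hcop hPp
  set N := normalizer (P : Set L) with hN
  let φ : N →* L ⧸ R := (QuotientGroup.mk' R).comp N.subtype
  have hrange : φ.range = N.map (QuotientGroup.mk' R) := by
    rw [MonoidHom.range_comp, Subgroup.range_subtype]
  have hker : φ.ker = R.subgroupOf N := by
    ext x
    simp [φ, MonoidHom.mem_ker, Subgroup.mem_subgroupOf]
  have h2 : Nat.card N = Nat.card φ.ker * Nat.card φ.range := by
    rw [Nat.card_congr (QuotientGroup.quotientKerEquivRange φ).toEquiv.symm, mul_comm]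
    exact Subgroup.card_eq_card_quotient_mul_card_subgroup _
  rw [h2, hrange, h1, hker]
  congr 1
  rw [← Subgroup.inf_subgroupOf_right]
  exact Nat.card_congr (Subgroup.subgroupOfEquivOfLe inf_le_right).toEquiv

/-- the `r`-part of the order of a normal `p'`-subgroup -/
theorem exists_pow {P R : Subgroup L} [R.Normal] (hP : Nat.card P = p) (hR : ¬ p ∣ Nat.card R) (r : ℕ)
    (hr : r.Prime) : ∃ j : ℕ, r ^ j ∣ Nat.card (R ⊓ normalizer (P : Set L) : Subgroup L) ∧
      r ^ ((Nat.card R).factorization r) ≡ r ^ j [MOD p] := by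
  have := Fact.mk hr
  have hPp : IsPGroup p P := IsPGroup.of_card (n := 1) (by rw [hP, pow_one])
  obtain ⟨S, hSR, hS, hSi, hinv⟩ := Cfsg.Agent.Classification.QDW.FuCop.exists_inv (D := P) (X := R) hPp hR
    (fun b _ u hu => Subgroup.Normal.conj_mem inferInstance u hu b) r
  have hcardS : Nat.card S = r ^ ((Nat.card R).factorization r) := by
    obtain ⟨k, hk⟩ := IsPGroup.iff_card.1 hS
    have h1 : Nat.card S * S.relIndex R = Nat.card R := by
      rw [← Nat.card_congr (Subgroup.subgroupOfEquivOfLe hSR).toEquiv]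
      exact Subgroup.card_mul_index _
    have h2 : S.relIndex R ≠ 0 := by
      intro h
      rw [h, mul_zero] at h1
      exact (Nat.card_pos (α := R)).ne' h1.symm
    rw [← h1, Nat.factorization_mul (Nat.card_pos).ne' h2, hk]
    simp [Nat.factorization_eq_zero_of_not_dvd hSi, hr.factorization_self]
  -- `P` acts on `S` by conjugation
  let act : MulAction P S :=
    { smul := fun x y => ⟨x * y * (x : L)⁻¹, hinv x x.2 y y.2⟩
      one_smul := fun y => Subtype.ext (by change ((1 : P) : L) * y * ((1 : P) : L)⁻¹ = y; simp)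
      mul_smul := fun a b y => Subtype.ext (by
        change ((a * b : P) : L) * y * ((a * b : P) : L)⁻¹ = (a : L) * ((b : L) * y * (b : L)⁻¹) * (a : L)⁻¹
        simp [mul_assoc]) }
  have hmod := hPp.card_modEq_card_fixedPoints S
  have hfix : ∀ y : S, y ∈ fixedPoints P S ↔ (y : L) ∈ centralizer (P : Set L) := by
    intro y
    rw [MulAction.mem_fixedPoints, Subgroup.mem_centralizer_iff]
    constructor
    · intro h x hx
      have h1 := congrArg Subtype.val (h ⟨x, hx⟩)
      change x * y * x⁻¹ = y at h1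
      exact mul_inv_eq_iff_eq_mul.1 h1
    · intro h x
      apply Subtype.ext
      change (x : L) * y * (x : L)⁻¹ = y
      rw [h x x.2, mul_inv_cancel_right]
  have hcard : Nat.card (fixedPoints P S) = Nat.card (S ⊓ centralizer (P : Set L) : Subgroup L) := by
    apply Nat.card_congr
    exact
      { toFun := fun y => ⟨(y.1 : L), y.1.2, (hfix y.1).1 y.2⟩
        invFun := fun y => ⟨⟨y.1, y.2.1⟩, (hfix ⟨y.1, y.2.1⟩).2 y.2.2⟩
        left_inv := fun y => rfl
        right_inv := fun y => rfl }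
  have hC : IsPGroup r (S ⊓ centralizer (P : Set L) : Subgroup L) := hS.to_le inf_le_left
  obtain ⟨j, hj⟩ := IsPGroup.iff_card.1 hC
  refine ⟨j, ?_, ?_⟩
  · rw [← hj]
    apply Subgroup.card_dvd_of_le
    refine le_inf (inf_le_left.trans hSR) (inf_le_right.trans ?_)
    exact Subgroup.centralizer_le_normalizer _
  · rw [← hcardS, ← hj, ← hcard]
    exact hmod

end A

section B

variable {H : Type u} [Group H] [Finite H] {p : ℕ} [hp : Fact p.Prime]

/-- **Frattini.** -/
theorem card_normalizer_frattini {L P : Subgroup H} [L.Normal] (hPL : P ≤ L) (hP : Nat.card P = p)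
    (hp2 : ¬ p ^ 2 ∣ Nat.card H) :
    Nat.card (normalizer (P : Set H)) = L.index * Nat.card (normalizer ((P.subgroupOf L : Subgroup L) : Set L)) := by
  have hcard : Nat.card (P.subgroupOf L) = p := by
    rw [Nat.card_congr (Subgroup.subgroupOfEquivOfLe hPL).toEquiv, hP]
  have hpL : Nat.card (P.subgroupOf L) = p ^ (Nat.card L).factorization p := by
    rw [hcard]
    have h1 : p ∣ Nat.card L := by rw [← hP]; exact Subgroup.card_dvd_of_le hPL
    have h2 : ¬ p ^ 2 ∣ Nat.card L := fun h => hp2 (h.trans (Subgroup.card_subgroup_dvd_card L))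
    have h3 : (Nat.card L).factorization p = 1 := by
      have h4 : 1 ≤ (Nat.card L).factorization p :=
        (hp.out.dvd_iff_one_le_factorization (Nat.card_pos).ne').1 h1
      have h5 : ¬ 2 ≤ (Nat.card L).factorization p := fun h =>
        h2 ((hp.out.pow_dvd_iff_le_factorization (Nat.card_pos).ne').2 h)
      omega
    rw [h3, pow_one]
  let PL : Sylow p L := Sylow.ofCard (P.subgroupOf L) hpL
  have hfr := Sylow.normalizer_sup_eq_top PL
  have hmap : (PL : Subgroup L).map L.subtype = P := by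
    change (P.subgroupOf L).map L.subtype = P
    rw [Subgroup.subgroupOf_map_subtype, inf_eq_left]
    exact hPL
  rw [hmap] at hfr
  set N := normalizer (P : Set H) with hN
  have h1 : L.index = L.relIndex N := by
    rw [← Subgroup.relIndex_top_right, ← hfr, Subgroup.relIndex_sup_right]
  have h2 : Nat.card (L.subgroupOf N) * L.relIndex N = Nat.card N := Subgroup.card_mul_index _
  have h3 : Nat.card (L.subgroupOf N) = Nat.card (normalizer ((P.subgroupOf L : Subgroup L) : Set L)) := by
    rw [← Subgroup.subgroupOf_normalizer_eq hPL, ← Subgroup.inf_subgroupOf_right,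
      Nat.card_congr (Subgroup.subgroupOfEquivOfLe (inf_le_right : L ⊓ N ≤ N)).toEquiv,
      ← Subgroup.inf_subgroupOf_right N L,
      Nat.card_congr (Subgroup.subgroupOfEquivOfLe (inf_le_right : N ⊓ L ≤ L)).toEquiv, inf_comm]
  rw [← h2, h3, ← h1, mul_comm]

end B

section C

variable {H : Type u} [Group H] [Finite H] {p : ℕ} [hp : Fact p.Prime]

theorem factorization_eq_one {n : ℕ} (hn : n ≠ 0) (h1 : p ∣ n) (h2 : ¬ p ^ 2 ∣ n) : n.factorization p = 1 := by
  have h4 : 1 ≤ n.factorization p := (hp.out.dvd_iff_one_le_factorization hn).1 h1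
  have h5 : ¬ 2 ≤ n.factorization p := fun h => h2 ((hp.out.pow_dvd_iff_le_factorization hn).2 h)
  omega

/-- a subgroup of order `p` as a Sylow subgroup -/
theorem exists_sylow {P : Subgroup H} (hP : Nat.card P = p) (hp2 : ¬ p ^ 2 ∣ Nat.card H) :
    ∃ S : Sylow p H, (S : Subgroup H) = P := by
  have h1 : p ∣ Nat.card H := by rw [← hP]; exact Subgroup.card_subgroup_dvd_card P
  refine ⟨Sylow.ofCard P ?_, rfl⟩
  rw [hP, factorization_eq_one (Nat.card_pos).ne' h1 hp2, pow_one]

/-- the normal closure `L` of `P` has a normal `p'`-subgroup `R` with `L/R` simple. -/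
theorem exists_simple {P : Subgroup H} (hP : Nat.card P = p) (hp2 : ¬ p ^ 2 ∣ Nat.card H) :
    ∃ R : Subgroup (normalClosure (P : Set H)), R.Normal ∧ ¬ p ∣ Nat.card R ∧
      ∀ N : Subgroup (normalClosure (P : Set H)), N.Normal → R ≤ N → N = R ∨ N = ⊤ := by
  classical
  set L := normalClosure (P : Set H) with hL
  have hfin : Set.Finite {R : Subgroup L | R.Normal ∧ ¬ p ∣ Nat.card R} := Set.toFinite _
  obtain ⟨R, hR⟩ := hfin.exists_maximal ⟨⊥, inferInstance, by
    rw [Subgroup.card_bot]
    exact fun h => hp.out.one_lt.ne' (Nat.dvd_one.1 h)⟩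
  refine ⟨R, hR.prop.1, hR.prop.2, fun N hN hle => ?_⟩
  by_cases hpN : p ∣ Nat.card N
  · right
    obtain ⟨x, hx⟩ := exists_prime_orderOf_dvd_card' p hpN
    have hLp2 : ¬ p ^ 2 ∣ Nat.card L := fun h => hp2 (h.trans (Subgroup.card_subgroup_dvd_card L))
    have hQ : Nat.card (zpowers (x : L)) = p := by
      rw [Nat.card_zpowers, ← hx]
      exact Subgroup.orderOf_coe x
    obtain ⟨SQ, hSQ⟩ := exists_sylow hQ hLp2
    have key : L ≤ N.map L.subtype := by
      refine (Subgroup.closure_le _).2 ?_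
      intro y hy
      obtain ⟨a, ha, hay⟩ := Group.mem_conjugatesOfSet_iff.1 hy
      obtain ⟨g, rfl⟩ := isConj_iff.1 hay
      -- the conjugate of `P`
      have hPgL : P.map (MulAut.conj g).toMonoidHom ≤ L := by
        rintro _ ⟨b, hb, rfl⟩
        exact (Subgroup.normalClosure_normal (s := (P : Set H))).conj_mem b (Subgroup.subset_normalClosure hb) g
      have hc : Nat.card ((P.map (MulAut.conj g).toMonoidHom).subgroupOf L) = p := by
        rw [Nat.card_congr (Subgroup.subgroupOfEquivOfLe hPgL).toEquiv, ← hP]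
        exact (Nat.card_congr (P.equivMapOfInjective _ (MulAut.conj g).injective).toEquiv).symm
      obtain ⟨SP, hSP⟩ := exists_sylow hc hLp2
      obtain ⟨l, hl⟩ := MulAction.exists_smul_eq L SQ SP
      have hmem : (⟨g * a * g⁻¹, hPgL ⟨a, ha, rfl⟩⟩ : L) ∈ (SP : Subgroup L) := by
        rw [hSP]
        exact ⟨a, ha, rfl⟩
      rw [← hl, Sylow.coe_subgroup_smul, hSQ] at hmem
      obtain ⟨q, hq, hql⟩ := hmem
      refine ⟨⟨g * a * g⁻¹, hPgL ⟨a, ha, rfl⟩⟩, ?_, rfl⟩
      rw [← hql]
      have hqN : q ∈ N := (Subgroup.zpowers_le.2 x.2) hq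
      exact hN.conj_mem q hqN l
    rw [eq_top_iff]
    intro y _
    obtain ⟨z, hz, hzy⟩ := key y.2
    have : z = y := Subtype.ext hzy
    rwa [← this]
  · left
    exact le_antisymm (hR.le_of_ge ⟨hN, hpN⟩ hle) hle

/-- a non-abelian simple group with a Sylow `p`-subgroup of order `p` -/
theorem two_le_normalizer {K : Type u} [Group K] [Finite K] [IsSimpleGroup K] (hna : ¬ ∀ x y : K, x * y = y * x)
    {P : Subgroup K} (hP : Nat.card P = p) (hp2 : ¬ p ^ 2 ∣ Nat.card K) :
    ∃ m : ℕ, Nat.card (normalizer (P : Set K)) = p * m ∧ 2 ≤ m ∧ p * m ∣ Nat.card K ∧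
      Nat.card K / (p * m) ≡ 1 [MOD p] := by
  obtain ⟨S, hS⟩ := exists_sylow hP hp2
  obtain ⟨m, hm⟩ : p ∣ Nat.card (normalizer (P : Set K)) := by
    have h := Subgroup.card_dvd_of_le (Subgroup.le_normalizer (H := P))
    rwa [hP] at h
  refine ⟨m, hm, ?_, ?_, ?_⟩
  · by_contra hcon
    have hm1 : m = 1 := by
      have : m ≠ 0 := by
        rintro rfl
        rw [mul_zero] at hm
        exact (Nat.card_pos (α := normalizer (P : Set K))).ne' hm
      omega
    rw [hm1, mul_one, ← hP] at hm
    have hNP : P = normalizer (P : Set K) :=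
      Subgroup.eq_of_le_of_card_ge Subgroup.le_normalizer hm.le
    have hcyc : IsCyclic P := isCyclic_of_prime_card hP
    have hcomm : ∀ a ∈ P, ∀ b ∈ P, a * b = b * a := by
      intro a ha b hb
      obtain ⟨g, hg⟩ := hcyc.exists_generator
      obtain ⟨i, hi⟩ := Subgroup.mem_zpowers_iff.1 (hg ⟨a, ha⟩)
      obtain ⟨j, hj⟩ := Subgroup.mem_zpowers_iff.1 (hg ⟨b, hb⟩)
      have h1 : (⟨a, ha⟩ : P) * ⟨b, hb⟩ = ⟨b, hb⟩ * ⟨a, ha⟩ := by
        rw [← hi, ← hj, ← zpow_add, ← zpow_add, add_comm]
      exact congrArg Subtype.val h1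
    have hle : normalizer ((S : Subgroup K) : Set K) ≤ centralizer ((S : Subgroup K) : Set K) := by
      rw [hS, ← hNP]
      intro a ha
      rw [Subgroup.mem_centralizer_iff]
      intro b hb
      exact hcomm b hb a ha
    have hcompl := MonoidHom.ker_transferSylow_isComplement' S hle
    rcases IsSimpleGroup.eq_bot_or_eq_top_of_normal (MonoidHom.transferSylow S hle).ker inferInstance with h | h
    · rw [h, Subgroup.isComplement'_bot_left, hS] at hcompl
      apply hna
      intro x y
      exact hcomm x (by rw [hcompl]; trivial) y (by rw [hcompl]; trivial)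
    · rw [h, Subgroup.isComplement'_top_left, hS] at hcompl
      rw [hcompl, Subgroup.card_bot] at hP
      exact hp.out.one_lt.ne hP
  · rw [← hm]
    exact Subgroup.card_subgroup_dvd_card _
  · rw [← hm]
    have h1 := card_sylow_modEq_one p K
    rw [Sylow.card_eq_index_normalizer S] at h1
    have h2 : (S : Set K) = (P : Set K) := by rw [← hS]; rfl
    rw [h2] at h1
    rwa [← Subgroup.card_mul_index (normalizer (P : Set K)), Nat.mul_div_cancel_left _ Nat.card_pos]

/-- **The structure theorem.** -/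
theorem exists_struct {P : Subgroup H} (hP : Nat.card P = p) (hp2 : ¬ p ^ 2 ∣ Nat.card H) :
    ∃ a s c m D : ℕ, Nat.card H = a * s * c ∧ ¬ p ∣ a ∧ Nat.card (normalizer (P : Set H)) = c * D * (p * m) ∧
      D ∣ Nat.card (centralizer (P : Set H)) ∧
      (∀ r : ℕ, r.Prime → ∃ j : ℕ, r ^ j ∣ D ∧ r ^ (a.factorization r) ≡ r ^ j [MOD p]) ∧
      ((s = p ∧ m = 1) ∨ ∃ (K : Type u) (_ : Group K) (_ : Finite K), IsSimpleGroup K ∧
        (¬ ∀ x y : K, x * y = y * x) ∧ Nat.card K = s ∧ p ∣ s ∧ 2 ≤ m ∧ p * m ∣ s ∧ s / (p * m) ≡ 1 [MOD p] ∧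
        (a = 1 → c = 1 → Nonempty (H ≃* K))) := by
  obtain ⟨L, hL, hLn, R, hRn, hRp, hmax⟩ : ∃ L : Subgroup H, L = normalClosure (P : Set H) ∧ L.Normal ∧
      ∃ R : Subgroup L, R.Normal ∧ ¬ p ∣ Nat.card R ∧
      ∀ N : Subgroup L, N.Normal → R ≤ N → N = R ∨ N = ⊤ :=
    ⟨_, rfl, Subgroup.normalClosure_normal, exists_simple hP hp2⟩
  have hPL : P ≤ L := by rw [hL]; exact Subgroup.subset_normalClosure
  have hcard : Nat.card (P.subgroupOf L) = p := by
    rw [Nat.card_congr (Subgroup.subgroupOfEquivOfLe hPL).toEquiv, hP]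
  have hLp2 : ¬ p ^ 2 ∣ Nat.card L := fun h => hp2 (h.trans (Subgroup.card_subgroup_dvd_card L))
  have hpL : p ∣ Nat.card L := by rw [← hcard]; exact Subgroup.card_subgroup_dvd_card _
  have hLRK : Nat.card L = Nat.card (L ⧸ R) * Nat.card R := Subgroup.card_eq_card_quotient_mul_card_subgroup R
  have hpK : p ∣ Nat.card (L ⧸ R) := by
    rw [hLRK] at hpL
    exact (hp.out.dvd_mul.1 hpL).resolve_right hRp
  have hKp2 : ¬ p ^ 2 ∣ Nat.card (L ⧸ R) := fun h => hLp2 (by rw [hLRK]; exact h.mul_right _)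
  have hnt : Nontrivial (L ⧸ R) := by
    by_contra hcon
    rw [not_nontrivial_iff_subsingleton] at hcon
    rw [Nat.card_of_subsingleton (1 : L ⧸ R)] at hpK
    exact hp.out.one_lt.ne' (Nat.dvd_one.1 hpK)
  have hsimple : IsSimpleGroup (L ⧸ R) := by
    refine ⟨fun N hN => ?_⟩
    have h1 : R ≤ N.comap (QuotientGroup.mk' R) := by
      intro x hx
      rw [Subgroup.mem_comap, QuotientGroup.mk'_apply, (QuotientGroup.eq_one_iff x).2 hx]
      exact N.one_mem
    have h2 : N = (N.comap (QuotientGroup.mk' R)).map (QuotientGroup.mk' R) :=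
      (Subgroup.map_comap_eq_self_of_surjective (QuotientGroup.mk'_surjective R) N).symm
    rcases hmax _ (hN.comap _) h1 with h | h
    · left
      rw [h2, h]
      rw [eq_bot_iff]
      rintro _ ⟨x, hx, rfl⟩
      exact (QuotientGroup.eq_one_iff x).2 hx
    · right
      rw [h2, h]
      exact Subgroup.map_top_of_surjective _ (QuotientGroup.mk'_surjective R)
  have hmapcard : Nat.card ((P.subgroupOf L).map (QuotientGroup.mk' R)) = p := by
    have h1 : Nat.card ((P.subgroupOf L).map (QuotientGroup.mk' R)) ∣ p := by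
      have := Subgroup.card_map_dvd (P.subgroupOf L) (QuotientGroup.mk' R)
      rwa [hcard] at this
    rcases (Nat.dvd_prime hp.out).1 h1 with h | h
    · exfalso
      have h2 : (P.subgroupOf L).map (QuotientGroup.mk' R) = ⊥ := Subgroup.eq_bot_of_card_eq _ h
      rw [Subgroup.map_eq_bot_iff, QuotientGroup.ker_mk'] at h2
      apply hRp
      rw [← hcard]
      exact Subgroup.card_dvd_of_le h2
    · exact h
  have hN1 := card_normalizer_frattini hPL hP hp2
  have hN2 := card_normalizer (R := R) hcard hRp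
  set D := Nat.card (R ⊓ normalizer ((P.subgroupOf L : Subgroup L) : Set L) : Subgroup L) with hD
  have hDC : D ∣ Nat.card (centralizer (P : Set H)) := by
    have h1 : (R ⊓ normalizer ((P.subgroupOf L : Subgroup L) : Set L) : Subgroup L).map L.subtype ≤
        centralizer (P : Set H) := by
      rintro _ ⟨x, hx, rfl⟩
      rw [Subgroup.mem_centralizer_iff]
      intro y hy
      have h2 := comm_of_mem hcard hRp hx.1 hx.2 (y := ⟨y, hPL hy⟩) hy
      exact (congrArg Subtype.val h2).symm
    have h2 := Subgroup.card_dvd_of_le h1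
    rwa [Nat.card_congr (Subgroup.equivMapOfInjective _ L.subtype L.subtype_injective).toEquiv.symm] at h2
  have hHc : Nat.card H = Nat.card R * Nat.card (L ⧸ R) * L.index := by
    rw [← Subgroup.card_mul_index L, hLRK, mul_comm (Nat.card (L ⧸ R))]
  by_cases hab : ∀ x y : L ⧸ R, x * y = y * x
  · refine ⟨Nat.card R, Nat.card (L ⧸ R), L.index, 1, D, hHc, hRp, ?_, hDC, fun r hr => exists_pow hcard hRp r hr,
      Or.inl ⟨?_, rfl⟩⟩
    · rw [hN1, hN2, mul_one, ← mul_assoc]
      congr 1
      have h3 : normalizer (((P.subgroupOf L).map (QuotientGroup.mk' R) : Subgroup (L ⧸ R)) : Set (L ⧸ R)) = ⊤ := by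
        rw [eq_top_iff]
        intro x _
        rw [Subgroup.mem_normalizer_iff]
        intro y
        rw [hab x y, mul_inv_cancel_right]
      have h4 : (P.subgroupOf L).map (QuotientGroup.mk' R) = ⊤ := by
        have : ((P.subgroupOf L).map (QuotientGroup.mk' R)).Normal := ⟨fun n hn g => by
          rw [hab g n, mul_inv_cancel_right]; exact hn⟩
        rcases hsimple.eq_bot_or_eq_top_of_normal _ this with h | h
        · rw [h, Subgroup.card_bot] at hmapcard
          exact absurd hmapcard hp.out.one_lt.ne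
        · exact h
      rw [h3, ← h4]
      exact hmapcard
    · have h4 : (P.subgroupOf L).map (QuotientGroup.mk' R) = ⊤ := by
        have : ((P.subgroupOf L).map (QuotientGroup.mk' R)).Normal := ⟨fun n hn g => by
          rw [hab g n, mul_inv_cancel_right]; exact hn⟩
        rcases hsimple.eq_bot_or_eq_top_of_normal _ this with h | h
        · rw [h, Subgroup.card_bot] at hmapcard
          exact absurd hmapcard hp.out.one_lt.ne
        · exact h
      rw [h4, Subgroup.card_top] at hmapcard
      exact hmapcard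
  · obtain ⟨m, hm, hm2, hmd, hmm⟩ := two_le_normalizer hab hmapcard hKp2
    refine ⟨Nat.card R, Nat.card (L ⧸ R), L.index, m, D, hHc, hRp, ?_, hDC,
      fun r hr => exists_pow hcard hRp r hr, Or.inr ⟨L ⧸ R, inferInstance, inferInstance, hsimple, hab, rfl, hpK, hm2,
        hmd, hmm, fun ha hc => ?_⟩⟩
    · rw [hN1, hN2, ← mul_assoc, hm]
    · have hR1 : R = ⊥ := Subgroup.eq_bot_of_card_eq _ ha
      have hL1 : L = ⊤ := Subgroup.index_eq_one.1 hc
      subst hR1
      exact ⟨((QuotientGroup.quotientBot).trans ((MulEquiv.subgroupCongr hL1).trans Subgroup.topEquiv)).symm⟩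

end C

end Cfsg.Agent.H970.StabK
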