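import Cfsg.Agent.H970.CycOne

/-!
# `k(B₀) = k₀(B₀) = p` for a Sylow subgroup of order `p` with one class of nontrivial `p`-elements (helper970)
-/

set_option autoImplicit false

namespace Cfsg.Agent.H970.CycOne

open Subgroup MulAction Cfsg Cfsg.Agent.H608.BlockRank

section

variable {G : Type*} [Group G] [Finite G] (p : ℕ) [hp : Fact p.Prime] (P : Sylow p G)

/-- the degrees in the principal block are prime to `p` when `|P| = p` -/
theorem not_dvd_degree (hP : Nat.card (P : Subgroup G) = p) (M : Ideal Cfsg.AlgInt) (hM : Cfsg.IsPModular p M)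
    {χ : Cfsg.IrrCharacter G} (hχ : χ ∈ Cfsg.principalBlock M G) : ¬ p ∣ Cfsg.charDegree (χ : G → ℂ) := by
  intro hd
  have hMp := Cfsg.Agent.Blocks.Local.isPrime_of_isPModular hM
  obtain ⟨hd1, hd0, hdd⟩ := S0914.degree_spec χ
  have hpp : ¬ p ∣ Nat.card G / Cfsg.charDegree (χ : G → ℂ) := by
    intro h
    have h1 : p ^ 2 ∣ Nat.card G := by
      rw [← Nat.mul_div_cancel' hdd, pow_two]
      exact mul_dvd_mul hd h
    have h2 := P.pow_dvd_card_of_pow_dvd_card h1
    rw [hP] at h2
    have h3 := Nat.le_of_dvd hp.out.pos h2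
    have h4 := hp.out.two_le
    nlinarith
  have hs := (S0914.result p M hM χ).1 hpp
  have hblk : IsPBlock M ({χ} : Set (IrrCharacter G)) := ⟨χ, hs.symm⟩
  have hprin := Cfsg.Agent.Blocks.PrincipalSection.isPBlock_principalBlock (K := G) (M := M)
  have h1 := Cfsg.Agent.Blocks.Basic.isPBlock_eq_of_mem hprin hblk hχ (Set.mem_singleton χ)
  have h2 := Cfsg.Agent.Blocks.PrincipalSection.one_mem_principalBlock (K := G) (M := M)
  rw [h1, Set.mem_singleton_iff] at h2
  rw [← h2] at hd1 hd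
  have h3 : Cfsg.charDegree (((⟨fun _ => 1, Cfsg.Agent.Blocks.Basic.isIrrCharacter_one⟩ : IrrCharacter G)) : G → ℂ) = 1 := by
    have h4 : ((Cfsg.charDegree (((⟨fun _ => 1, Cfsg.Agent.Blocks.Basic.isIrrCharacter_one⟩ :
      IrrCharacter G)) : G → ℂ) : ℕ) : ℂ) = 1 := hd1.symm
    exact_mod_cast h4
  rw [h3, Nat.dvd_one] at hd
  exact hp.out.one_lt.ne' hd

theorem card_principal (hP : Nat.card (P : Subgroup G) = p) (M : Ideal Cfsg.AlgInt) (hM : Cfsg.IsPModular p M)
    (he : (Subgroup.centralizer ((P : Subgroup G) : Set G)).relIndex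
      (Subgroup.normalizer ((P : Subgroup G) : Set G)) = p - 1) : Nat.card (Cfsg.principalBlock M G) = p := by
  classical
  obtain ⟨x, hx, hx1⟩ := exists_ne_one hP
  have hxo : ∃ k : ℕ, orderOf x = p ^ k := by
    obtain ⟨k, hk⟩ := IsPGroup.iff_orderOf.1 P.isPGroup' ⟨x, hx⟩
    exact ⟨k, by rw [← hk]; exact (Subgroup.orderOf_coe (⟨x, hx⟩ : (P : Subgroup G)))⟩
  have h1o : ∃ k : ℕ, orderOf (1 : G) = p ^ k := ⟨0, by simp⟩
  have hcard := H634.Cols.card_principal_eq (G := G) hM ({1, x} : Finset G) (by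
    intro y hy
    simp only [Finset.mem_insert, Finset.mem_singleton] at hy
    rcases hy with rfl | rfl
    · exact h1o
    · exact hxo) (by
    intro g hg
    by_cases hg1 : g = 1
    · subst hg1
      refine ⟨1, ⟨by simp, IsConj.refl _⟩, ?_⟩
      rintro y ⟨-, hy⟩
      exact isConj_one_right.1 hy
    · refine ⟨x, ⟨by simp, conj_of_relIndex p P hP he hg1 hx1 hg hxo⟩, ?_⟩
      rintro y ⟨hy, hgy⟩
      simp only [Finset.mem_insert, Finset.mem_singleton] at hy
      rcases hy with rfl | rfl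
      · exact absurd (isConj_one_right.1 hgy.symm) hg1
      · rfl)
  rw [Finset.sum_pair (Ne.symm hx1), rank_cent p P hP M hM hx hx1] at hcard
  have h3 : Cfsg.blockRank p (Cfsg.principalBlock M ↥(Subgroup.centralizer ({(1 : G)} : Set G))) =
      Cfsg.blockRank p (Cfsg.principalBlock M G) := by
    rw [← H634.Cols.finrank_secMap_principal hM h1o, H634.Cols.finrank_secMap_one]
  have h5 := hp.out.two_le
  rw [h3, blockRank_eq p P hP M hM he] at hcard
  omega

/-- `k₀(B₀) = p` -/
theorem card_height_zero (hP : Nat.card (P : Subgroup G) = p) (M : Ideal Cfsg.AlgInt) (hM : Cfsg.IsPModular p M)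
    (he : (Subgroup.centralizer ((P : Subgroup G) : Set G)).relIndex
      (Subgroup.normalizer ((P : Subgroup G) : Set G)) = p - 1) :
    Nat.card {χ : Cfsg.IrrCharacter G // χ ∈ Cfsg.principalBlock M G ∧
      Cfsg.blockHeight p (Cfsg.principalBlock M G) (χ : G → ℂ) = 0} = p := by
  refine Eq.trans ?_ (card_principal p P hP M hM he)
  refine Nat.card_congr (Equiv.subtypeEquivRight fun χ => ⟨fun h => h.1, fun h => ⟨h, ?_⟩⟩)
  unfold Cfsg.blockHeight
  rw [Nat.factorization_eq_zero_of_not_dvd (not_dvd_degree p P hP M hM h), Nat.zero_sub]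

end

end Cfsg.Agent.H970.CycOne
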