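import Cfsg.Agent.H386.HalfTwo.Count
import Cfsg.Agent.H488.M24Action
import Cfsg.Agent.H660.SporPrimeIndex
import Cfsg.Agent.H970.TwoSporPack
import Cfsg.Agent.NotCT.Orders
import Cfsg.Agent.S2061
import Cfsg.Agent.S2071

/-!
# S3576, rows `M₁₂`, `M₂₃`, `M₂₄`, `Co₃` (helper970)
-/

set_option autoImplicit false

namespace Cfsg.Agent.H970.HalfSpor

open MulAction Cfsg.Agent.H384.TwoTrans Cfsg.Agent.H386.HalfTwo Cfsg.Agent.H488.ThreeHalf Cfsg.Agent.H970.TwoSpor

universe u v

variable {G : Type u} {Ω : Type v} [Group G] [MulAction G Ω] {T : Subgroup G} {m : ℕ}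

/-- `m = 5` and `|G_ab| > 120` : then `25 ∣ |G_ab|` -/
theorem five_sq [Finite G] [Finite Ω] [FaithfulSMul G Ω] (hn : 3 ≤ Nat.card Ω) (H : Half G Ω 5) {a b : Ω} (hab : a ≠ b)
    (h : 120 < Nat.card (GG G a b)) : 25 ∣ Nat.card (GG G a b) := by
  classical
  obtain ⟨c, hc⟩ : ∃ c : Ω, c ≠ a ∧ c ≠ b := by
    by_contra hcon
    push Not at hcon
    have h1 := ncard_compl_pair hab
    have h2 : ({x : Ω | x ≠ a ∧ x ≠ b} : Set Ω) = ∅ := by
      ext x
      simp only [Set.mem_ofPred_eq, Set.mem_empty_iff_false, iff_false, not_and, not_not]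
      exact hcon x
    rw [h2, Set.ncard_empty] at h1
    omega
  have hO := H.orb a b c hab hc.1 hc.2
  set φ := MulAction.toPermHom (GG G a b) (orbit (GG G a b) c) with hφ
  set K : Subgroup G := φ.ker.map (GG G a b).subtype with hK
  have hKle : K ≤ GG G a b := Subgroup.map_subtype_le _
  have hKc : Nat.card K = Nat.card φ.ker :=
    (Nat.card_congr (Subgroup.equivMapOfInjective _ _ (GG G a b).subtype_injective).toEquiv).symm
  -- `|G_ab : K| ≤ 120`
  have hr : Nat.card φ.range ≤ 120 := by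
    have h1 : Nat.card φ.range ∣ Nat.card (Equiv.Perm (orbit (GG G a b) c)) := Subgroup.card_subgroup_dvd_card _
    rw [Nat.card_perm, hO] at h1
    exact Nat.le_of_dvd (by decide) h1
  have hm : Nat.card φ.range * Nat.card φ.ker = Nat.card (GG G a b) := by
    rw [← Subgroup.index_ker]
    exact Subgroup.index_mul_card _
  have hK1 : K ≠ ⊥ := by
    intro h1
    have h2 : Nat.card K = 1 := by rw [h1, Subgroup.card_bot]
    rw [hKc] at h2
    rw [h2, mul_one] at hm
    omega
  have hKn : ∀ g ∈ GG G a b, ∀ n, n ∈ K ↔ g * n * g⁻¹ ∈ K := by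
    have key : ∀ g ∈ GG G a b, ∀ n, n ∈ K → g * n * g⁻¹ ∈ K := by
      rintro g hg _ ⟨n, hn, rfl⟩
      exact ⟨⟨g, hg⟩ * n * ⟨g, hg⟩⁻¹, φ.normal_ker.conj_mem n hn _, rfl⟩
    intro g hg n
    refine ⟨key g hg n, fun h => ?_⟩
    have h1 := key g⁻¹ ((GG G a b).inv_mem hg) _ h
    rwa [inv_inv, show g⁻¹ * (g * n * g⁻¹) * g = n by group] at h1
  -- `5 ∣ |K|`
  have h5 : 5 ∣ Nat.card K := by
    obtain ⟨⟨k, hk⟩, hk1⟩ := (Subgroup.ne_bot_iff_exists_ne_one).1 hK1
    have hk1' : k ≠ 1 := fun h => hk1 (Subtype.ext h)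
    obtain ⟨d, hd⟩ : ∃ d : Ω, k • d ≠ d := by
      by_contra hcon
      push Not at hcon
      exact hk1' (FaithfulSMul.eq_of_smul_eq_smul (α := Ω) fun x => by rw [hcon x, one_smul])
    have hkG := mem_GG.1 (hKle hk)
    have hda : d ≠ a := fun h => hd (by rw [h, hkG.1])
    have hdb : d ≠ b := fun h => hd (by rw [h, hkG.2])
    have h1 := H.dvd_of_normal hab hda hdb hKle hKn
    rcases (Nat.dvd_prime (by norm_num)).1 h1 with h2 | h2
    · exfalso
      apply hd
      rw [Nat.card_eq_one_iff_unique] at h2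
      have h3 : (⟨k • d, ⟨⟨k, hk⟩, rfl⟩⟩ : orbit K d) = ⟨d, mem_orbit_self d⟩ := h2.1.elim _ _
      exact congrArg Subtype.val h3
    · rw [← h2]
      exact card_orbit_dvd_card K d
  -- `5 ∣ |G_ab : K|`
  have h5' : 5 ∣ Nat.card φ.range := by
    have htr : IsPretransitive φ.range (orbit (GG G a b) c) := by
      refine ⟨fun x y => ?_⟩
      obtain ⟨g, hg⟩ := exists_smul_eq (GG G a b) x y
      exact ⟨⟨φ g, g, rfl⟩, hg⟩
    have h1 := MulAction.index_stabilizer_of_transitive φ.range (⟨c, mem_orbit_self c⟩ : orbit (GG G a b) c)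
    rw [hO] at h1
    rw [← h1]
    exact Subgroup.index_dvd_card _
  rw [hKc] at h5
  rw [← hm]
  exact mul_dvd_mul h5' h5

/-- multiple transitivity of `T` implies that of `G` -/
theorem of_T [Finite Ω] {k : ℕ} (h : IsMultiplyPretransitive T Ω k) (hk : 3 ≤ k) (hn : k ≤ Nat.card Ω) :
    IsMultiplyPretransitive G Ω 3 := by
  have h1 : IsMultiplyPretransitive T Ω 3 := by
    have := h
    exact MulAction.isMultiplyPretransitive_of_le hk (by exact_mod_cast hn)
  refine ⟨fun s t => ?_⟩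
  obtain ⟨g, hg⟩ := h1.exists_smul_eq s t
  exact ⟨(g : G), by
    ext i
    exact congrArg (fun f : Fin 3 ↪ Ω => f i) hg⟩

theorem m24 (A : AS G Ω T) (_ : Half G Ω m) (h : Cfsg.Spor.IsoM24 T) (hn : Nat.card Ω = 24) :
    IsMultiplyPretransitive G Ω 3 := by
  have := A.finT
  have := A.finΩ
  have := A.transitive
  have h1 := H488.M24Action.five (T := T) (Ω := Ω) A.simple (NotCT.Orders.m24 h) hn
  exact of_T h1 (by norm_num) (by omega)

theorem m23 (A : AS G Ω T) (_ : Half G Ω m) (h : Cfsg.Spor.IsoM23 T) (hn : Nat.card Ω = 23) :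
    IsMultiplyPretransitive G Ω 3 := by
  have := A.finT
  have := A.finΩ
  have := A.transitive
  have h1 := H660.SporPrimeIndex.m23_four (T := T) h (Ω := Ω) hn
  exact of_T h1 (by norm_num) (by omega)

theorem m12 (A : AS G Ω T) (H : Half G Ω m) (h : Cfsg.Spor.IsoM12 T) (hn : Nat.card Ω = 12) :
    m = 1 ∨ IsMultiplyPretransitive G Ω 3 := by
  have := A.finT
  have := A.finG
  have := A.finΩ
  have := A.faithful
  have := A.nontrivialΩ
  have hc := NotCT.Orders.m12 h
  have hG := TwoSpor.card_dvd A (index_of_out h S2061.result)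
  rw [hc] at hG
  obtain ⟨a, b, hab⟩ := exists_pair_ne Ω
  have h1 := card_eq A.two hab
  rw [hn] at h1
  have h2 : T.index * 95040 = Nat.card G := by
    rw [← hc]; exact T.index_mul_card
  have hi : 0 < T.index := Nat.pos_of_ne_zero Subgroup.FiniteIndex.index_ne_zero
  set g := Nat.card (GG G a b) with hg
  have hg1 : g = 720 * T.index := by omega
  have hm := H.dvd
  rw [hn] at hm
  have h5 : 5 ≤ m := H.prime_le hab (p := 5) (by norm_num) (by rw [← hg, hg1]; exact Dvd.intro (144 * T.index) (by ring))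
  have hm10 : m ≤ 10 := Nat.le_of_dvd (by norm_num) hm
  have hm' : m = 5 ∨ m = 10 := by
    interval_cases m <;> simp_all
  rcases hm' with rfl | rfl
  · exfalso
    have h25 := five_sq (by omega) H hab (by rw [← hg, hg1]; omega)
    have h3 : 25 ∣ 2 * 95040 := h25.trans ((Dvd.intro_left _ h1.symm).trans hG)
    norm_num at h3
  · right
    exact H.three_of_lt (by omega) A.two (by omega)

theorem co3 (A : AS G Ω T) (H : Half G Ω m) (h : Cfsg.Spor.IsoCo3 T) (hn : Nat.card Ω = 276) : m = 1 := by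
  exfalso
  have := A.finT
  have := A.finG
  have := A.finΩ
  have := A.faithful
  have := A.nontrivialΩ
  have hc := NotCT.Orders.co3 h
  have hG := TwoSpor.card_dvd A (index_of_out h S2071.result)
  rw [hc] at hG
  obtain ⟨a, b, hab⟩ := exists_pair_ne Ω
  have h1 := card_eq A.two hab
  rw [hn] at h1
  have h2 : T.index * 495766656000 = Nat.card G := by
    rw [← hc]; exact T.index_mul_card
  have hi : 0 < T.index := Nat.pos_of_ne_zero Subgroup.FiniteIndex.index_ne_zero
  have h3 := Nat.le_of_dvd (by norm_num) hG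
  set g := Nat.card (GG G a b) with hg
  have hg1 : g = 6531840 := by omega
  have hm := H.dvd
  rw [hn] at hm
  have h5 : 3 ≤ m := H.prime_le hab (p := 3) (by norm_num) (by rw [← hg, hg1]; norm_num)
  have h6 := H.dvd_GG (by omega) hab
  rw [← hg, hg1] at h6
  have h7 : m ∣ Nat.gcd 274 6531840 := Nat.dvd_gcd hm h6
  have h8 : Nat.gcd 274 6531840 = 2 := by decide +kernel
  rw [h8] at h7
  have := Nat.le_of_dvd (by norm_num) h7
  omega

end Cfsg.Agent.H970.HalfSpor
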