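import Cfsg.Agent.H970.TwoCount
import Cfsg.Agent.H970.TwoSporBase

/-!
# Classes of a sporadic socle in a 2-transitive group (helper970)

* `ncard_conj` : `|C| |C_T(x)| = |T|` for the `T`-class `C` of `x`;
* `ncard_conj_G` : `|x^G| |C_T(x)| = d |T|`, `d ∣ [G : T]`;
* `cls_T`, `exists_cls` : the conditions of `TwoCount` for them.
-/

set_option autoImplicit false

namespace Cfsg.Agent.H970.TwoSpor

open Subgroup MulAction Cfsg.Agent.H384.TwoTrans Cfsg.Agent.H970.TwoCount
  Cfsg.Agent.PermutationGroups.TwoTransitiveNormal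

universe u v

section

variable {G : Type u} [Group G]

/-- `|C| |C_T(x)| = |T|` for the `T`-class `C` of `x ∈ T` -/
theorem ncard_conj [Finite G] {T : Subgroup G} (x : ↥T) {C : Set G} (hC : ∀ y : G, y ∈ C ↔ ∃ t : ↥T, y = t * x * t⁻¹) :
    C.ncard * Nat.card (centralizer ({x} : Set ↥T)) = Nat.card T := by
  let _ : MulAction ↥T G := MulAction.compHom G ((MulAut.conj : G →* MulAut G).comp T.subtype)
  have hsm : ∀ (t : ↥T) (g : G), t • g = (t : G) * g * (t : G)⁻¹ := fun _ _ => rfl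
  have h1 : C = orbit ↥T (x : G) := by
    ext y
    rw [hC, mem_orbit_iff]
    constructor
    · rintro ⟨t, rfl⟩; exact ⟨t, rfl⟩
    · rintro ⟨t, rfl⟩; exact ⟨t, rfl⟩
  have h2 : centralizer ({x} : Set ↥T) = stabilizer ↥T (x : G) := by
    ext t
    rw [mem_centralizer_singleton_iff, mem_stabilizer_iff, hsm, mul_inv_eq_iff_eq_mul]
    constructor
    · intro h; exact congrArg Subtype.val h
    · intro h; exact Subtype.ext h
  rw [h1, h2, ← index_stabilizer, Subgroup.index_mul_card]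

theorem ncard_conj_G [Finite G] {T : Subgroup G} [T.Normal] (x : ↥T) :
    ∃ d, d ∣ T.index ∧ (conjugatesOf (x : G)).ncard * Nat.card (centralizer ({x} : Set ↥T)) = d * Nat.card T := by
  have h0 : (conjugatesOf (x : G)).ncard * Nat.card (centralizer ({(x : G)} : Set G)) = Nat.card G := by
    have h1 : conjugatesOf (x : G) = orbit (ConjAct G) (x : G) := by
      ext y
      rw [ConjAct.mem_orbit_conjAct]
      exact ⟨fun h => IsConj.symm h, fun h => IsConj.symm h⟩
    rw [h1, ← index_stabilizer (G := ConjAct G), ConjAct.stabilizer_eq_centralizer]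
    exact Subgroup.index_mul_card (G := ConjAct G) _
  set Cx := centralizer ({(x : G)} : Set G) with hCx
  obtain ⟨d, hd⟩ : T.relIndex Cx ∣ T.index := Subgroup.relIndex_dvd_index_of_normal T Cx
  have h2 : T.relIndex Cx * Nat.card (centralizer ({x} : Set ↥T)) = Nat.card Cx := by
    rw [← Subgroup.index_mul_card (T.subgroupOf Cx)]
    congr 1
    refine Nat.card_congr ⟨fun t => ⟨⟨(t : ↥T), ?_⟩, t.1.2⟩, fun t => ⟨⟨t.1.1, t.2⟩, ?_⟩, fun _ => rfl, fun _ => rfl⟩
    · have := mem_centralizer_singleton_iff.1 t.2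
      exact mem_centralizer_singleton_iff.2 (congrArg Subtype.val this)
    · have := mem_centralizer_singleton_iff.1 t.1.2
      exact mem_centralizer_singleton_iff.2 (Subtype.ext this)
  have h3 : 0 < T.relIndex Cx := by
    rcases Nat.eq_zero_or_pos (T.relIndex Cx) with h | h
    · rw [h, zero_mul] at h2
      exact absurd h2.symm Nat.card_pos.ne'
    · exact h
  refine ⟨d, Dvd.intro_left _ hd.symm, ?_⟩
  apply Nat.eq_of_mul_eq_mul_left h3
  have h4 := Subgroup.index_mul_card T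
  calc T.relIndex Cx * ((conjugatesOf (x : G)).ncard * Nat.card (centralizer ({x} : Set ↥T)))
      = (conjugatesOf (x : G)).ncard * (T.relIndex Cx * Nat.card (centralizer ({x} : Set ↥T))) := by ring
    _ = Nat.card G := by rw [h2, h0]
    _ = T.relIndex Cx * (d * Nat.card T) := by rw [← h4, hd]; ring

end

variable {G : Type u} {Ω : Type v} [Group G] [MulAction G Ω] {T : Subgroup G}

/-- the class of `x ∈ T` in `G` -/
theorem exists_cls (A : AS G Ω T) {x : ↥T} (hx : x ≠ 1) (a : Ω) : ∃ d, d ∣ T.index ∧ ∃ c,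
    c * Nat.card (centralizer ({x} : Set ↥T)) = d * Nat.card T ∧
      Cls (Nat.card Ω) c (fixedBy Ω (x : G)).ncard {y ∈ conjugatesOf (x : G) | y • a = a}.ncard (Nat.card G) := by
  have := A.finG
  have := A.finΩ
  have := A.normal
  obtain ⟨d, hd, h1⟩ := ncard_conj_G (T := T) x
  refine ⟨d, hd, _, h1, cls A (H221.ClassCount.inv_conj _) ?_ ⟨x, mem_conjugatesOf_self⟩
    (fun y hy => H221.ClassCount.fix_conj _ y hy) a⟩
  intro h
  have h2 : IsConj (x : G) 1 := h
  rw [isConj_comm, isConj_one_right] at h2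
  exact hx (Subtype.ext h2)

/-- a `G`-invariant class of `T` -/
theorem cls_T (A : AS G Ω T) {x : ↥T} (hx : x ≠ 1) {P : ↥T → Prop} (hPx : P x)
    (hinv : ∀ g : G, ∀ y z : ↥T, (z : G) = g * y * g⁻¹ → P y → P z)
    (hone : ∀ y : ↥T, P y → IsConj x y) (a : Ω) : ∃ c,
    c * Nat.card (centralizer ({x} : Set ↥T)) = Nat.card T ∧
      Cls (Nat.card Ω) c (fixedBy Ω (x : G)).ncard {y | (∃ h : y ∈ T, P ⟨y, h⟩) ∧ y • a = a}.ncard (Nat.card G) := by
  have := A.finG
  have := A.finΩ
  have := A.normal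
  set C : Set G := {y | ∃ h : y ∈ T, P ⟨y, h⟩} with hC
  have hCm : ∀ y : G, y ∈ C ↔ ∃ t : ↥T, y = t * x * t⁻¹ := by
    intro y
    constructor
    · rintro ⟨h, hy⟩
      obtain ⟨t, ht⟩ := isConj_iff.1 (hone _ hy)
      exact ⟨t, (congrArg Subtype.val ht).symm⟩
    · rintro ⟨t, rfl⟩
      exact ⟨A.normal.conj_mem _ x.2 _, hinv t x _ rfl hPx⟩
  have hinv' : H221.ClassCount.Inv C := by
    rintro g y ⟨h, hy⟩
    exact ⟨A.normal.conj_mem _ h _, hinv g ⟨y, h⟩ _ rfl hy⟩
  refine ⟨C.ncard, ncard_conj x hCm, ?_⟩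
  refine cls A hinv' ?_ ⟨x, (hCm _).2 ⟨1, by simp⟩⟩ ?_ a
  · intro h
    obtain ⟨t, ht⟩ := (hCm _).1 h
    apply hx
    apply Subtype.ext
    have h2 : (t : G) * x = t := by
      have h3 : (1 : G) = (t : G) * x * (t : G)⁻¹ := ht
      rw [eq_mul_inv_iff_mul_eq, one_mul] at h3
      exact h3.symm
    simpa using h2
  · intro y hy
    obtain ⟨t, rfl⟩ := (hCm y).1 hy
    exact H221.ClassCount.fix_conj _ _ (isConj_iff.2 ⟨t, rfl⟩)

/-- a central involution of a Sylow `2`-subgroup -/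
theorem exists_central {K : Type*} [Group K] [Finite K] {m : ℕ} (hm : 0 < m) (hd : 2 ^ m ∣ Nat.card K) :
    ∃ x : K, x * x = 1 ∧ x ≠ 1 ∧ 2 ^ m ∣ Nat.card (centralizer ({x} : Set K)) := by
  have : Fact (Nat.Prime 2) := ⟨Nat.prime_two⟩
  obtain ⟨S⟩ : Nonempty (Sylow 2 K) := inferInstance
  have hS : 2 ^ m ∣ Nat.card (S : Subgroup K) := S.pow_dvd_card_of_pow_dvd_card hd
  have hnt : Nontrivial (S : Subgroup K) := by
    rw [← Finite.one_lt_card_iff_nontrivial]
    have h1 := Nat.le_of_dvd Nat.card_pos hS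
    have h2 : 2 ≤ 2 ^ m := by
      calc 2 = 2 ^ 1 := rfl
        _ ≤ 2 ^ m := Nat.pow_le_pow_right (by norm_num) hm
    omega
  have hc := S.isPGroup'.center_nontrivial
  have h2 : 2 ∣ Nat.card (center (S : Subgroup K)) := by
    obtain ⟨n, hn⟩ := (S.isPGroup'.to_subgroup (center (S : Subgroup K))).exists_card_eq
    rw [hn]
    rcases Nat.eq_zero_or_pos n with rfl | h
    · exfalso
      have h3 := Finite.one_lt_card_iff_nontrivial.2 hc
      rw [hn, pow_zero] at h3
      omega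
    · exact dvd_pow_self 2 h.ne'
  obtain ⟨z, hz⟩ := exists_prime_orderOf_dvd_card' 2 h2
  have hz' : orderOf (((z : (S : Subgroup K)) : K)) = 2 := by
    rw [Subgroup.orderOf_coe, Subgroup.orderOf_coe, hz]
  refine ⟨((z : (S : Subgroup K)) : K), ?_, ?_, hS.trans (Subgroup.card_dvd_of_le ?_)⟩
  · have := pow_orderOf_eq_one (((z : (S : Subgroup K)) : K))
    rwa [hz', pow_two] at this
  · intro h
    rw [h, orderOf_one] at hz'
    omega
  · intro s hs
    rw [mem_centralizer_singleton_iff]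
    have := mem_center_iff.1 z.2 ⟨s, hs⟩
    exact congrArg Subtype.val this

/-- a subgroup of order prime-power fixes a point if the degree is prime to `p` -/
theorem exists_fix (A : AS G Ω T) {p : ℕ} [Fact p.Prime] (E : Subgroup ↥T) (hE : IsPGroup p E)
    (hn : ¬ p ∣ Nat.card Ω) : ∃ b : Ω, ∀ y ∈ E, y • b = b := by
  have := A.finΩ
  have := A.finT
  obtain ⟨b, hb⟩ := hE.nonempty_fixed_point_of_prime_not_dvd_card Ω hn
  exact ⟨b, fun y hy => hb ⟨y, hy⟩⟩

/-- `f(x) ≡ n mod p` for an element of order `p` -/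
theorem fix_modEq (A : AS G Ω T) {x : G} {p : ℕ} (hp : p.Prime) (hx : orderOf x = p) :
    (fixedBy Ω x).ncard ≡ Nat.card Ω [MOD p] := by
  have := A.finG
  have := A.finΩ
  have := Fact.mk hp
  have hP : IsPGroup p ↥(zpowers x) := IsPGroup.of_card (n := 1) (by rw [Nat.card_zpowers, hx, pow_one])
  have h1 := hP.card_modEq_card_fixedPoints Ω
  have h2 : fixedPoints ↥(zpowers x) Ω = fixedBy Ω x := by
    ext a
    rw [mem_fixedPoints, mem_fixedBy]
    constructor
    · intro h; exact h ⟨x, mem_zpowers x⟩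
    · rintro h ⟨y, k, rfl⟩
      have h3 : x ∈ stabilizer G a := h
      exact (stabilizer G a).zpow_mem h3 k
  rw [h2, Nat.card_coe_set_eq] at h1
  exact h1.symm

end Cfsg.Agent.H970.TwoSpor
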