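import Cfsg.Agent.H970.TwoSporPack
import Cfsg.Agent.H384.TwoTransOf
import Cfsg.Agent.S2060
import Cfsg.Agent.S2062
import Cfsg.Agent.S2063
import Cfsg.Agent.S2064
import Cfsg.Agent.NotCT.Orders
import Cfsg.Agent.SporadicA.M11Sylow
import Cfsg.Agent.M22.SylowFive
import Cfsg.Agent.M22.Sylow7Core
import Cfsg.Agent.M22.SevenThreeEight
import Cfsg.Agent.M22.SevenSixFour
import Cfsg.Agent.M23.SylowEleven
import Cfsg.Agent.M23.Sylow23
import Cfsg.Agent.SporadicA.M24.Sylow23

/-!
# HUB H1, part P11: the Mathieu groups, first part (helper970)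
-/

set_option autoImplicit false

namespace Cfsg.Agent.H970.TwoSpor

open Subgroup MulAction Cfsg.Agent.H384.TwoTrans Cfsg.Agent.H970.StabNum Cfsg

universe u v

variable {G : Type u} {Ω : Type v} [Group G] [MulAction G Ω] {T : Subgroup G}

theorem row_m11 (OT : OrdDiv.OrderTable.{u})
    (hS : ∀ (X : Type u) [Group X] [Finite X] [IsSimpleGroup X], Cfsg.IsKnownSimple' X) :
    Row.{u, v} fun T _ => Spor.IsoM11 T := by
  intro G Ω _ _ T A h
  have := A.finT
  have := A.simple
  have hN := NotCT.Orders.m11 h
  have h1 := deg_mem A OT hS hN (out := 1) (l := [(2, 4), (3, 2), (5, 1), (11, 1)])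
    (data := [(11, 1, 5)]) (ps := [2, 3, 5, 11]) (tbl := [60, 360, 660, 7920])
    (s := [11, 12]) (index_of_out h S2060.result) js_one (by decide +kernel) (by
      intro x hx
      simp only [List.mem_cons, List.not_mem_nil, or_false] at hx
      rcases hx with rfl
      exact entry_of_cent (by norm_num) hN (by norm_num) (by norm_num) (by norm_num) (by decide +kernel)
          fun y hy => (SporadicA.M11Sylow.card_centralizer_eleven (⟨inferInstance, hN⟩ : IsM11 ↥T) hy).dvd)
      (by decide +kernel)
  simp only [List.mem_cons, List.not_mem_nil, or_false] at h1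
  rcases h1 with h1 | h1
  · rw [h1]; exact Known2.m11 h
  · rw [h1]; exact Known2.m11' h

/-- the degrees for `M₂₂` -/
theorem deg_m22 (A : AS G Ω T) (OT : OrdDiv.OrderTable.{u})
    (hS : ∀ (X : Type u) [Group X] [Finite X] [IsSimpleGroup X], Cfsg.IsKnownSimple' X) (h : Spor.IsoM22 ↥T) :
    Nat.card Ω ∈ ([22, 56, 385] : List ℕ) := by
  have := A.finT
  have := A.simple
  have hcard := NotCT.Orders.m22 h
  have f11 : Fact (Nat.Prime 11) := ⟨by norm_num⟩
  have f7 : Fact (Nat.Prime 7) := ⟨by norm_num⟩
  have h11 : ∀ Q : Sylow 11 ↥T, Subgroup.centralizer (Q : Set ↥T) = (Q : Subgroup ↥T) :=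
    fun Q => (Cfsg.Agent.M22.Sylow11.sylow_eleven hcard Q).1
  have h7 : ∀ P : Sylow 7 ↥T, Subgroup.centralizer (P : Set ↥T) = (P : Subgroup ↥T) ∧
      (Subgroup.centralizer (P : Set ↥T)).relIndex (Subgroup.normalizer (P : Set ↥T)) = 3 :=
    fun P => Cfsg.Agent.M22.Sylow7Core.sylow_seven_core hcard h11 P
      (fun _ hK h8 => Cfsg.Agent.M22.SevenThreeEight.false_three_eight hcard h11 P hK h8)
      (fun _ hK h4 => Cfsg.Agent.M22.SevenSixFour.false_six_four hcard h11 P hK h4)
  refine deg_mem A OT hS hcard (out := 2) (l := [(2, 7), (3, 2), (5, 1), (7, 1), (11, 1)])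
    (data := [(7, 1, 3), (11, 1, 5)]) (ps := [2, 3, 5, 7, 11])
    (tbl := [60, 168, 360, 504, 660, 2520, 7920, 20160, 443520])
    (index_of_out h S2062.result) js_two (by decide +kernel) (by
      intro x hx
      simp only [List.mem_cons, List.not_mem_nil, or_false] at hx
      rcases hx with rfl | rfl
      · exact entry_of_self (by norm_num) hcard (by norm_num) (by norm_num) (by decide +kernel) fun S => (h7 S).1
      · exact entry_of_self (by norm_num) hcard (by norm_num) (by norm_num) (by decide +kernel) fun S => h11 S)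
      (by decide +kernel)

/-- the degrees for `M₂₃` -/
theorem deg_m23 (A : AS G Ω T) (OT : OrdDiv.OrderTable.{u})
    (hS : ∀ (X : Type u) [Group X] [Finite X] [IsSimpleGroup X], Cfsg.IsKnownSimple' X) (h : Spor.IsoM23 ↥T) :
    Nat.card Ω ∈ ([23, 253] : List ℕ) := by
  have := A.finT
  have := A.simple
  have hcard := NotCT.Orders.m23 h
  refine deg_mem A OT hS hcard (out := 1) (l := [(2, 7), (3, 2), (5, 1), (7, 1), (11, 1), (23, 1)])
    (data := [(11, 1, 5), (23, 1, 11)]) (ps := [2, 3, 5, 7, 11, 23])
    (tbl := [60, 168, 360, 504, 660, 2520, 6072, 7920, 20160, 443520, 10200960])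
    (index_of_out h S2063.result) js_one (by decide +kernel) (by
      intro x hx
      simp only [List.mem_cons, List.not_mem_nil, or_false] at hx
      rcases hx with rfl | rfl
      · exact entry_of_self (by norm_num) hcard (by norm_num) (by norm_num) (by decide +kernel)
          fun S => M23.SylowEleven.centralizer_eq hcard S
      · exact entry_of_self (by norm_num) hcard (by norm_num) (by norm_num) (by decide +kernel)
          fun S => M23.Sylow23.centralizer_eq hcard S)
      (by decide +kernel)

end Cfsg.Agent.H970.TwoSpor
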