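import Cfsg.Agent.H697.Tricho
import Cfsg.Agent.H697.TwoDim
import Cfsg.Agent.H275.GLTwoFix

/-!
# Linear groups of degree 2 of order prime to the characteristic (helper970, for S4881)

`index_center_le` : a finite nonabelian group `C` of order prime to `p` with an injective homomorphism to `GL₂(K)`,
`K` a field of characteristic `p`, all of whose abelian normal subgroups are central, has `|C : Z(C)| ≤ 60`
(more precisely `index_center_dvd` : it divides 12, 24 or 60).
-/

set_option autoImplicit false

namespace Cfsg.Agent.H970.DimTwo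

open MulAction Matrix Cfsg.Agent.H275.TwoFix Cfsg.Agent.H275.GLTwoFix Cfsg.Agent.H697.TwoDim
open scoped OnePoint

section Closed

variable {K : Type*} [Field K] [DecidableEq K]

/-- Two fixed points, in every characteristic. -/
theorem exists_two_fixed' {p : ℕ} [hp : Fact p.Prime] [CharP K p] [IsAlgClosed K]
    (g : GL (Fin 2) K) (m : ℕ) (hm : ¬ p ∣ m) (hgm : g ^ m = 1) (hne : ∃ x : OnePoint K, g • x ≠ x) :
    ∃ x y : OnePoint K, x ≠ y ∧ ∀ z : OnePoint K, g • z = z ↔ z = x ∨ z = y := by
  have hgm' : (g : Matrix (Fin 2) (Fin 2) K) ^ m = 1 := by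
    rw [← Units.val_pow_eq_pow_val, hgm, Units.val_one]
  have hd := det_ne g
  set a := g 0 0 with ha
  set b := g 0 1 with hb
  set c := g 1 0 with hc
  set d := g 1 1 with hdd
  have hfix : ∀ k : K, g • (k : OnePoint K) = k ↔ c * k ^ 2 + (d - a) * k - b = 0 := by
    intro k
    rw [← Matrix.GeneralLinearGroup.fixpointPolynomial_aeval_eq_zero_iff]
    simp [Matrix.GeneralLinearGroup.fixpointPolynomial, ha, hb, hc, hdd]
  -- no double eigenvalue
  have hdbl : ∀ al : K, a + d = 2 * al → a * d - b * c = al ^ 2 → False := by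
    intro al h1 h2
    have hal : al ≠ 0 := by
      rintro rfl
      apply hd
      rw [h2]; ring
    have hd1 : d = 2 * al - a := by linear_combination h1
    have hsq : ((g : Matrix (Fin 2) (Fin 2) K) - al • (1 : Matrix (Fin 2) (Fin 2) K)) *
        ((g : Matrix (Fin 2) (Fin 2) K) - al • (1 : Matrix (Fin 2) (Fin 2) K)) = 0 := by
      rw [hd1] at h2
      ext i j
      rw [Matrix.mul_apply, Fin.sum_univ_two]
      fin_cases i <;> fin_cases j <;>
        simp [Matrix.sub_apply, Matrix.smul_apply, ← ha, ← hb, ← hc, ← hdd, hd1] <;>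
        first | ring1 | linear_combination h2 | linear_combination -h2
    have hs := scalar_of_discr_eq_zero (g : Matrix (Fin 2) (Fin 2) K) m hm hgm' _ hsq hal
    obtain ⟨x, hx⟩ := hne
    apply hx
    apply smul_eq_self_of_scalar
    · have := congrFun (congrFun hs 1) 0
      simpa using this
    · have := congrFun (congrFun hs 0) 1
      simpa using this
    · have e1 := congrFun (congrFun hs 0) 0
      have e2 := congrFun (congrFun hs 1) 1
      simp at e1 e2
      exact e1.trans e2.symm
  by_cases hc0 : c = 0
  · have had : d - a ≠ 0 := by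
      intro h3
      refine hdbl a (by linear_combination h3) ?_
      rw [hc0]
      linear_combination a * h3
    refine ⟨∞, ((b / (d - a) : K) : OnePoint K), (OnePoint.infty_ne_coe _), fun z => ?_⟩
    cases z with
    | infty =>
      constructor
      · intro _; exact Or.inl rfl
      · intro _; rw [OnePoint.smul_infty_eq_self_iff]; exact hc0
    | coe k =>
      rw [hfix, hc0, OnePoint.coe_eq_coe]
      constructor
      · intro h3
        right
        rw [eq_div_iff had]
        linear_combination h3
      · rintro (h3 | h3)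
        · exact absurd h3 (OnePoint.coe_ne_infty _)
        · rw [h3]; field_simp; ring
  · obtain ⟨k₁, hk₁⟩ : ∃ k : K, c * k ^ 2 + (d - a) * k - b = 0 := by
      have hdeg : (Polynomial.C c * Polynomial.X ^ 2 + Polynomial.C (d - a) * Polynomial.X +
          Polynomial.C (-b)).degree ≠ 0 := by
        rw [Polynomial.degree_quadratic hc0]; norm_num
      obtain ⟨k, hk⟩ := IsAlgClosed.exists_root _ hdeg
      refine ⟨k, ?_⟩
      simpa [Polynomial.IsRoot, sub_eq_add_neg] using hk
    obtain ⟨k₂, hk₂'⟩ : ∃ k₂ : K, c * k₂ = a - d - c * k₁ := ⟨(a - d) / c - k₁, by field_simp⟩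
    have hprod : c * (k₁ * k₂) = -b := by
      linear_combination k₁ * hk₂' - hk₁
    refine ⟨(k₁ : OnePoint K), (k₂ : OnePoint K), ?_, fun z => ?_⟩
    · rw [ne_eq, OnePoint.coe_eq_coe]
      intro h3
      rw [← h3] at hk₂' hprod
      refine hdbl (c * k₁ + d) (by linear_combination -hk₂') ?_
      linear_combination -(c * hprod) - d * hk₂'
    · cases z with
      | infty =>
        constructor
        · intro h3
          exact absurd (OnePoint.smul_infty_eq_self_iff.1 h3) hc0
        · rintro (h3 | h3)
          · exact absurd h3 (OnePoint.infty_ne_coe _)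
          · exact absurd h3 (OnePoint.infty_ne_coe _)
      | coe k =>
        rw [hfix, OnePoint.coe_eq_coe, OnePoint.coe_eq_coe]
        have h4 : c * k ^ 2 + (d - a) * k - b = c * ((k - k₁) * (k - k₂)) := by
          linear_combination k * hk₂' - hprod
        constructor
        · intro h3
          rw [h4] at h3
          rcases mul_eq_zero.1 ((mul_eq_zero.1 h3).resolve_left hc0) with h7 | h7
          · exact Or.inl (sub_eq_zero.1 h7)
          · exact Or.inr (sub_eq_zero.1 h7)
        · rintro (h3 | h3)
          · rw [h4, h3]; ring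
          · rw [h4, h3]; ring

end Closed

section Main

variable {K : Type*} [Field K] {p : ℕ} [hp : Fact p.Prime] [CharP K p]
variable {C : Type*} [Group C] [Finite C]

theorem main_aux [IsAlgClosed K] (f : C →* GL (Fin 2) K) (hf : Function.Injective f) (hpC : ¬ p ∣ Nat.card C)
    (hna : ∃ x y : C, x * y ≠ y * x)
    (hab : ∀ N : Subgroup C, N.Normal → IsMulCommutative N → N ≤ Subgroup.center C) :
    (Subgroup.center C).index ∣ 12 ∨ (Subgroup.center C).index ∣ 24 ∨ (Subgroup.center C).index ∣ 60 := by
  classical
  set φ : C →* Equiv.Perm (OnePoint K) := (MulAction.toPermHom (GL (Fin 2) K) (OnePoint K)).comp f with hφ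
  have hφs : ∀ (g : C) (x : OnePoint K), φ g x = f g • x := fun _ _ => rfl
  have hfin : Finite φ.range := Set.finite_range φ
  have htf : TwoFixed φ.range (OnePoint K) := by
    rintro ⟨_, g, rfl⟩ hne
    have h1 : f g ^ Nat.card C = 1 := by rw [← map_pow, pow_card_eq_one', map_one]
    have h2 : ∃ x : OnePoint K, f g • x ≠ x := by
      by_contra hcon
      push Not at hcon
      apply hne
      apply Subtype.ext
      ext x
      exact hcon x
    obtain ⟨x, y, hxy, h3⟩ := exists_two_fixed' (f g) _ hpC h1 h2
    exact ⟨x, y, hxy, h3⟩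
  -- the kernel is central
  have hker : φ.ker ≤ Subgroup.center C := by
    intro g hg
    rw [Subgroup.mem_center_iff]
    intro h
    apply hf
    rw [map_mul, map_mul]
    have h1 : ∀ x : OnePoint K, f g • x = x := by
      intro x
      have h2 : φ g = 1 := hg
      rw [← hφs, h2]; rfl
    obtain ⟨e1, e2, e3⟩ := scalar_of_smul_eq_self _ h1
    have hs : ((f g : GL (Fin 2) K) : Matrix (Fin 2) (Fin 2) K) = (f g) 1 1 • (1 : Matrix (Fin 2) (Fin 2) K) := by
      ext i j
      fin_cases i <;> fin_cases j
      · simpa using e3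
      · simpa using e2
      · simpa using e1
      · simp
    apply Units.ext
    rw [Units.val_mul, Units.val_mul, hs, Matrix.mul_smul, Matrix.smul_mul, mul_one, one_mul]
  have hidx : (Subgroup.center C).index ∣ Nat.card φ.range := by
    rw [← Subgroup.index_ker]
    exact Subgroup.index_dvd_of_le hker
  rcases H697.Tricho.tricho htf ⟨∞, ((0 : K) : OnePoint K), OnePoint.infty_ne_coe _⟩ with
    ⟨a, b, hne, h⟩ | hN | ⟨hN, -⟩ | ⟨hN, -⟩
  · exfalso
    -- the subgroup fixing `a` and `b`
    let N : Subgroup C :=
      { carrier := {g | f g • a = a ∧ f g • b = b}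
        mul_mem' := by
          rintro g h ⟨h1, h2⟩ ⟨h3, h4⟩
          refine ⟨?_, ?_⟩
          · rw [map_mul, mul_smul, h3, h1]
          · rw [map_mul, mul_smul, h4, h2]
        one_mem' := by
          refine ⟨?_, ?_⟩ <;> rw [map_one, one_smul]
        inv_mem' := by
          rintro g ⟨h1, h2⟩
          refine ⟨?_, ?_⟩
          · rw [map_inv, inv_smul_eq_iff, h1]
          · rw [map_inv, inv_smul_eq_iff, h2] }
    have hmem : ∀ g : C, g ∈ N ↔ f g • a = a ∧ f g • b = b := fun g => Iff.rfl
    have hcase : ∀ g : C, g ∈ N ∨ (f g • a = b ∧ f g • b = a) := by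
      intro g
      exact h ⟨φ g, g, rfl⟩
    have hmulN : ∀ g h : C, g ∉ N → h ∉ N → g * h ∈ N := by
      intro g h hg hh
      obtain ⟨h1, h2⟩ := (hcase g).resolve_left hg
      obtain ⟨h3, h4⟩ := (hcase h).resolve_left hh
      rw [hmem, map_mul, mul_smul, mul_smul, h3, h4]
      exact ⟨h2, h1⟩
    have hNn : N.Normal := by
      refine ⟨fun n hn g => ?_⟩
      by_cases hg : g ∈ N
      · exact N.mul_mem (N.mul_mem hg hn) (N.inv_mem hg)
      · by_contra hcon
        have h1 : g⁻¹ ∉ N := fun h => hg (by simpa using N.inv_mem h)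
        have h2 := hmulN _ _ hcon hg
        have h3 : g * n * g⁻¹ * g = g * n := by group
        rw [h3] at h2
        apply hg
        have := N.mul_mem h2 (N.inv_mem hn)
        rwa [mul_inv_cancel_right] at this
    have hNc : IsMulCommutative N := by
      refine ⟨⟨fun x y => ?_⟩⟩
      apply Subtype.ext
      apply hf
      show f (x * y) = f (y * x)
      rw [map_mul, map_mul]
      exact commute_of_two (f x) (f y) hne x.2.1 x.2.2 y.2.1 y.2.2
    have hNZ := hab N hNn hNc
    obtain ⟨x, y, hxy⟩ := hna
    apply hxy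
    have hc : ∀ g : C, g ∈ N → ∀ z, z * g = g * z := fun g hg => Subgroup.mem_center_iff.1 (hNZ hg)
    by_cases hx : x ∈ N
    · exact (hc x hx y).symm
    · by_cases hy : y ∈ N
      · exact hc y hy x
      · have h1 := hc _ (hmulN x⁻¹ y (fun h => hx (by simpa using N.inv_mem h)) hy) x
        have h3 : x⁻¹ * y * x = y := by
          rw [← h1]; group
        calc x * y = x * (x⁻¹ * y * x) := by rw [h3]
          _ = y * x := by group
  · left; rw [hN] at hidx; exact hidx
  · right; left; rw [hN] at hidx; exact hidx
  · right; right; rw [hN] at hidx; exact hidx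

/-- degree 2, abelian normal subgroups central: `|C : Z(C)|` divides 12, 24 or 60 -/
theorem index_center_dvd (f : C →* GL (Fin 2) K) (hf : Function.Injective f) (hpC : ¬ p ∣ Nat.card C)
    (hna : ∃ x y : C, x * y ≠ y * x)
    (hab : ∀ N : Subgroup C, N.Normal → IsMulCommutative N → N ≤ Subgroup.center C) :
    (Subgroup.center C).index ∣ 12 ∨ (Subgroup.center C).index ∣ 24 ∨ (Subgroup.center C).index ∣ 60 := by
  have : CharP (AlgebraicClosure K) p := charP_of_injective_algebraMap (algebraMap K (AlgebraicClosure K)).injective p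
  have hinj : Function.Injective (Matrix.GeneralLinearGroup.map (n := Fin 2) (algebraMap K (AlgebraicClosure K))) := by
    intro a b hab
    apply Units.ext
    ext i j
    have h1 := congrArg (fun c : GL (Fin 2) (AlgebraicClosure K) =>
      (c : Matrix (Fin 2) (Fin 2) (AlgebraicClosure K)) i j) hab
    exact (algebraMap K (AlgebraicClosure K)).injective h1
  exact main_aux (K := AlgebraicClosure K)
    ((Matrix.GeneralLinearGroup.map (n := Fin 2) (algebraMap K (AlgebraicClosure K))).comp f) (hinj.comp hf) hpC hna hab

theorem index_center_le (f : C →* GL (Fin 2) K) (hf : Function.Injective f) (hpC : ¬ p ∣ Nat.card C)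
    (hna : ∃ x y : C, x * y ≠ y * x)
    (hab : ∀ N : Subgroup C, N.Normal → IsMulCommutative N → N ≤ Subgroup.center C) :
    (Subgroup.center C).index ≤ 60 := by
  rcases index_center_dvd f hf hpC hna hab with h | h | h
  · exact (Nat.le_of_dvd (by norm_num) h).trans (by norm_num)
  · exact (Nat.le_of_dvd (by norm_num) h).trans (by norm_num)
  · exact Nat.le_of_dvd (by norm_num) h

/-- the same for a faithful representation on a space of dimension 2 -/
theorem index_center_dvd_of_rep {V : Type*} [AddCommGroup V] [Module K V] (hV : Module.finrank K V = 2)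
    (ρ : C →* (V →ₗ[K] V)) (hρ : Function.Injective ρ) (hpC : ¬ p ∣ Nat.card C)
    (hna : ∃ x y : C, x * y ≠ y * x)
    (hab : ∀ N : Subgroup C, N.Normal → IsMulCommutative N → N ≤ Subgroup.center C) :
    (Subgroup.center C).index ∣ 12 ∨ (Subgroup.center C).index ∣ 24 ∨ (Subgroup.center C).index ∣ 60 := by
  have : FiniteDimensional K V := FiniteDimensional.of_finrank_pos (by rw [hV]; norm_num)
  let b : Module.Basis (Fin 2) K V := Module.finBasisOfFinrankEq K V hV
  let e := (LinearMap.toMatrixAlgEquiv b : (V →ₗ[K] V) ≃ₐ[K] Matrix (Fin 2) (Fin 2) K)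
  let m : C →* Matrix (Fin 2) (Fin 2) K := (e : (V →ₗ[K] V) →* Matrix (Fin 2) (Fin 2) K).comp ρ
  refine index_center_dvd m.toHomUnits ?_ hpC hna hab
  intro x y hxy
  apply hρ
  apply e.injective
  exact congrArg Units.val hxy

theorem index_center_le_of_rep {V : Type*} [AddCommGroup V] [Module K V] (hV : Module.finrank K V = 2)
    (ρ : C →* (V →ₗ[K] V)) (hρ : Function.Injective ρ) (hpC : ¬ p ∣ Nat.card C)
    (hna : ∃ x y : C, x * y ≠ y * x)
    (hab : ∀ N : Subgroup C, N.Normal → IsMulCommutative N → N ≤ Subgroup.center C) :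
    (Subgroup.center C).index ≤ 60 := by
  rcases index_center_dvd_of_rep hV ρ hρ hpC hna hab with h | h | h
  · exact (Nat.le_of_dvd (by norm_num) h).trans (by norm_num)
  · exact (Nat.le_of_dvd (by norm_num) h).trans (by norm_num)
  · exact Nat.le_of_dvd (by norm_num) h

end Main

end Cfsg.Agent.H970.DimTwo
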