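import Cfsg.Agent.H970.StabK
import Cfsg.Agent.OrdDiv.Main

/-!
# Numerical consequences of `StabK.exists_struct` for the orders of subgroups (helper970)

Data of a finite group `T` with `|T| = N`: a list of triples `(p, k, M)`, `p` prime with `p ∥ N`, such that for the
subgroups `P` of order `p` : `|C_T(P)| ∣ p k`, `|N_T(P)| ∣ p M`; `ps` a list of primes, `tbl` contains the orders of the
non-abelian simple sections. `feasAll data ps tbl h = true` for the order `h` of every subgroup.
-/

set_option autoImplicit false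

namespace Cfsg.Agent.H970.StabNum

open Subgroup

universe u

/-- `r`-part of `n` (with fuel) -/
def pp (r : ℕ) : ℕ → ℕ → ℕ
  | 0, _ => 1
  | f + 1, n => bif n % r == 0 then r * pp r f (n / r) else 1

theorem pp_eq {r : ℕ} (hr : r.Prime) : ∀ (f n : ℕ), n ≠ 0 → n < 2 ^ f → pp r f n = r ^ n.factorization r
  | 0, n, h0, h => by
    have : n = 0 := by omega
    exact absurd this h0
  | f + 1, n, h0, h => by
    rw [pp]
    by_cases hd : n % r = 0
    · have hdvd : r ∣ n := Nat.dvd_of_mod_eq_zero hd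
      obtain ⟨m, rfl⟩ := hdvd
      have hm : m ≠ 0 := by rintro rfl; simp at h0
      have hlt : m < 2 ^ f := by
        have h2 := hr.two_le
        rw [pow_succ] at h
        nlinarith
      have hb : (r * m % r == 0) = true := by simp
      rw [hb, cond_true, Nat.mul_div_cancel_left m hr.pos, pp_eq hr f m hm hlt,
        Nat.factorization_mul hr.pos.ne' hm, Finsupp.add_apply, hr.factorization_self, pow_add, pow_one]
    · have hb : (n % r == 0) = false := by simpa using hd
      rw [hb, cond_false, Nat.factorization_eq_zero_of_not_dvd (fun hh => hd (Nat.mod_eq_zero_of_dvd hh)), pow_zero]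

def okr (p a D r : ℕ) : Bool :=
  let v := pp r 80 a % p
  (List.range 8).any fun j => D % r ^ j == 0 && v == r ^ j % p

def okm (p M c D s : ℕ) : Bool :=
  (List.range (M + 1)).any fun m =>
    Nat.ble 2 m && (M % (c * D * m) == 0 && (s % (p * m) == 0 && s / (p * m) % p == 1 % p))

def feas (p k M : ℕ) (ps tbl : List ℕ) (h : ℕ) : Bool :=
  (List.range (M + 1)).any fun c => Nat.blt 0 c && (M % c == 0 && (h % c == 0 &&
    ((p :: tbl).any fun s => s % p == 0 && (h / c % s == 0 &&
      ((List.range (k + 1)).any fun D => Nat.blt 0 D && (k % D == 0 && (M % (c * D) == 0 &&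
        (h / c / s % p != 0 && (ps.all (okr p (h / c / s) D) && (s == p || okm p M c D s)))))))) ))

def feasAll (data : List (ℕ × ℕ × ℕ)) (ps tbl : List ℕ) (h : ℕ) : Bool :=
  data.all fun x => h % x.1 != 0 || feas x.1 x.2.1 x.2.2 ps tbl h

/-- the validity of the data -/
structure Data (T : Type u) [Group T] (data : List (ℕ × ℕ × ℕ)) (ps tbl : List ℕ) : Prop where
  fin : Finite T
  lt : Nat.card T < 2 ^ 80
  prime : ∀ x ∈ data, (x.1).Prime ∧ ¬ x.1 ^ 2 ∣ Nat.card T ∧ 0 < x.2.1 ∧ x.2.1 < 256 ∧ 0 < x.2.2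
  cent : ∀ x ∈ data, ∀ P : Subgroup T, Nat.card P = x.1 →
    Nat.card (centralizer (P : Set T)) ∣ x.1 * x.2.1 ∧ Nat.card (normalizer (P : Set T)) ∣ x.1 * x.2.2
  ps : ∀ r ∈ ps, r.Prime
  tbl : ∀ (K : Type u) [Group K] [Finite K], IsSimpleGroup K → (¬ ∀ x y : K, x * y = y * x) →
    Nat.card K ∣ Nat.card T → Nat.card K ∈ tbl

theorem bandI {a b : Bool} (ha : a = true) (hb : b = true) : (a && b) = true := by rw [ha, hb]; rfl

theorem beqI {a b : ℕ} (h : a = b) : (a == b) = true := by rw [h]; exact beq_self_eq_true b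

variable {T : Type u} [Group T]

theorem Data.feas {data : List (ℕ × ℕ × ℕ)} {ps tbl : List ℕ} (D : Data T data ps tbl) (H : Subgroup T) :
    feasAll data ps tbl (Nat.card H) = true := by
  have := D.fin
  unfold feasAll
  rw [List.all_eq_true]
  rintro ⟨p, k, M⟩ hx
  obtain ⟨hp, hp2, hk0, hk, hM0⟩ := D.prime _ hx
  have hcent := D.cent _ hx
  simp only at hp hp2 hk0 hk hM0 hcent
  by_cases hpH : Nat.card H % p = 0
  swap
  · have h1 : (Nat.card H % p != 0) = true := by simpa using hpH
    simp only [h1, Bool.true_or]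
  have hfp : Fact p.Prime := ⟨hp⟩
  have hpH' : p ∣ Nat.card H := Nat.dvd_of_mod_eq_zero hpH
  obtain ⟨x, hx1⟩ := exists_prime_orderOf_dvd_card' p hpH'
  have hP : Nat.card (zpowers x) = p := by rw [Nat.card_zpowers, hx1]
  have hHT : Nat.card H ∣ Nat.card T := Subgroup.card_subgroup_dvd_card H
  have hpH2 : ¬ p ^ 2 ∣ Nat.card H := fun h => hp2 (h.trans hHT)
  obtain ⟨a, s, c, m, D', h1, h2, h3, h4, h5, h6⟩ := Cfsg.Agent.H970.StabK.exists_struct hP hpH2
  have hHpos : 0 < Nat.card H := Nat.card_pos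
  have ha0 : a ≠ 0 := by rintro rfl; simp at h1; omega
  have hs0 : s ≠ 0 := by rintro rfl; simp at h1; omega
  have hc0 : c ≠ 0 := by rintro rfl; simp at h1; omega
  have hPT : Nat.card ((zpowers x).map H.subtype) = p := by
    rw [← hP]
    exact (Nat.card_congr ((zpowers x).equivMapOfInjective _ H.subtype_injective).toEquiv).symm
  obtain ⟨hC, hN⟩ := hcent _ hPT
  -- the centralizer in `H`
  have hcH : Nat.card (centralizer ((zpowers x : Subgroup H) : Set H)) ∣
      Nat.card (centralizer (((zpowers x).map H.subtype : Subgroup T) : Set T)) := by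
    have hle : (centralizer ((zpowers x : Subgroup H) : Set H)).map H.subtype ≤
        centralizer (((zpowers x).map H.subtype : Subgroup T) : Set T) := by
      rintro _ ⟨y, hy, rfl⟩
      rw [Subgroup.mem_centralizer_iff]
      rintro _ ⟨z, hz, rfl⟩
      exact congrArg Subtype.val (Subgroup.mem_centralizer_iff.1 hy z hz)
    have h7 := Subgroup.card_dvd_of_le hle
    rwa [Nat.card_congr (Subgroup.equivMapOfInjective _ H.subtype H.subtype_injective).toEquiv.symm] at h7
  have hnH : Nat.card (normalizer ((zpowers x : Subgroup H) : Set H)) ∣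
      Nat.card (normalizer (((zpowers x).map H.subtype : Subgroup T) : Set T)) := by
    have hle : (normalizer ((zpowers x : Subgroup H) : Set H)).map H.subtype ≤
        normalizer (((zpowers x).map H.subtype : Subgroup T) : Set T) := by
      have h8 := Subgroup.le_normalizer_map (H := zpowers x) H.subtype
      exact h8
    have h7 := Subgroup.card_dvd_of_le hle
    rwa [Nat.card_congr (Subgroup.equivMapOfInjective _ H.subtype H.subtype_injective).toEquiv.symm] at h7
  have hDk : D' ∣ k := by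
    have h8 : D' ∣ p * k := (h4.trans hcH).trans hC
    have h9 : Nat.Coprime D' p := by
      rw [Nat.coprime_comm, hp.coprime_iff_not_dvd]
      intro hpD
      -- `c * D' * (p * m)` would be divisible by `p^2`
      have h10 : p ^ 2 ∣ Nat.card H := by
        have h11 : p ^ 2 ∣ c * D' * (p * m) := by
          obtain ⟨e, he⟩ := hpD
          exact ⟨c * e * m, by rw [he]; ring⟩
        rw [← h3] at h11
        exact h11.trans (Subgroup.card_subgroup_dvd_card _)
      exact hpH2 h10
    exact h9.dvd_of_dvd_mul_left h8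
  have hcDm : c * D' * m ∣ M := by
    have h8 : c * D' * (p * m) ∣ p * M := by rw [← h3]; exact hnH.trans hN
    have h9 : p * (c * D' * m) ∣ p * M := by
      have : c * D' * (p * m) = p * (c * D' * m) := by ring
      rwa [this] at h8
    exact Nat.dvd_of_mul_dvd_mul_left hp.pos h9
  have hD0 : D' ≠ 0 := by rintro rfl; simp at hDk; omega
  have hm0 : m ≠ 0 := by
    rintro rfl
    simp at hcDm
    omega
  have hcD : c * D' ∣ M := (Dvd.intro m rfl).trans hcDm
  have hcM : c ∣ M := (Dvd.intro D' rfl).trans hcD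
  have hDM : D' ≤ k := Nat.le_of_dvd hk0 hDk
  have hcle : c ≤ M := Nat.le_of_dvd hM0 hcM
  have hmle : m ≤ M := Nat.le_of_dvd hM0 ((Dvd.intro_left (c * D') rfl).trans hcDm)
  have e1 : Nat.card H / c = a * s := by rw [h1]; exact Nat.mul_div_cancel _ (Nat.pos_of_ne_zero hc0)
  have e2 : Nat.card H / c / s = a := by rw [e1]; exact Nat.mul_div_cancel _ (Nat.pos_of_ne_zero hs0)
  have halt : a < 2 ^ 80 := by
    have h8 : a ≤ Nat.card T := Nat.le_of_dvd Nat.card_pos
      ((Dvd.intro (s * c) (by rw [h1]; ring)).trans hHT)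
    exact lt_of_le_of_lt h8 D.lt
  have hsp : p ∣ s := by
    rcases h6 with ⟨rfl, -⟩ | ⟨K, _, _, _, _, _, h, _⟩
    · exact dvd_rfl
    · exact h
  have hsmem : s ∈ p :: tbl := by
    rcases h6 with ⟨rfl, -⟩ | ⟨K, _, _, hK, hna, hKs, _⟩
    · exact List.mem_cons_self
    · refine List.mem_cons_of_mem _ ?_
      rw [← hKs]
      refine D.tbl K hK hna ?_
      rw [hKs]
      exact (Dvd.intro (a * c) (by rw [h1]; ring)).trans hHT
  have hfeas : StabNum.feas p k M ps tbl (Nat.card H) = true := by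
    unfold StabNum.feas
    rw [List.any_eq_true]
    refine ⟨c, List.mem_range.2 (by omega), ?_⟩
    refine bandI (by rw [Nat.blt_eq]; omega) (bandI (beqI (Nat.mod_eq_zero_of_dvd hcM))
      (bandI (beqI (Nat.mod_eq_zero_of_dvd ⟨a * s, by rw [h1]; ring⟩)) ?_))
    rw [List.any_eq_true]
    refine ⟨s, hsmem, bandI (beqI (Nat.mod_eq_zero_of_dvd hsp)) (bandI (beqI ?_) ?_)⟩
    · rw [e1]; exact Nat.mul_mod_left _ _
    rw [List.any_eq_true]
    refine ⟨D', List.mem_range.2 (by omega), ?_⟩
    refine bandI (by rw [Nat.blt_eq]; omega) (bandI (beqI (Nat.mod_eq_zero_of_dvd hDk))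
      (bandI (beqI (Nat.mod_eq_zero_of_dvd hcD)) ?_))
    rw [e2]
    refine bandI ?_ (bandI ?_ ?_)
    · have : a % p ≠ 0 := fun h => h2 (Nat.dvd_of_mod_eq_zero h)
      simpa using this
    · rw [List.all_eq_true]
      intro r hr
      obtain ⟨j, hj1, hj2⟩ := h5 r (D.ps r hr)
      have hr1 := D.ps r hr
      unfold okr
      simp only
      rw [pp_eq hr1 80 a ha0 halt, List.any_eq_true]
      refine ⟨j, List.mem_range.2 ?_, bandI (beqI (Nat.mod_eq_zero_of_dvd hj1)) (beqI hj2)⟩
      by_contra hcon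
      push Not at hcon
      have h9 : 2 ^ 8 ≤ r ^ j :=
        (Nat.pow_le_pow_left hr1.two_le 8).trans (Nat.pow_le_pow_right hr1.pos hcon)
      have h10 := Nat.le_of_dvd (Nat.pos_of_ne_zero hD0) hj1
      norm_num at h9
      omega
    · rcases h6 with ⟨rfl, -⟩ | ⟨K, _, _, _, _, _, _, hm2, hmd, hmm, _⟩
      · simp
      · rw [Bool.or_eq_true]
        right
        unfold okm
        rw [List.any_eq_true]
        exact ⟨m, List.mem_range.2 (by omega), bandI (by rw [Nat.ble_eq]; exact hm2)
          (bandI (beqI (Nat.mod_eq_zero_of_dvd hcDm)) (bandI (beqI (Nat.mod_eq_zero_of_dvd hmd)) (beqI hmm)))⟩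
  simp only [hfeas, Bool.or_true]

/-- the divisors of `N`, from its factorization -/
def divs : List (ℕ × ℕ) → List ℕ
  | [] => [1]
  | x :: l => (List.range (x.2 + 1)).flatMap fun i => (divs l).map fun d => x.1 ^ i * d

theorem mem_divs : ∀ {l : List (ℕ × ℕ)}, (∀ x ∈ l, (x.1).Prime) → ∀ {n : ℕ}, n ∣ OrdDiv.prodl l → n ∈ divs l
  | [], _, n, h => by
    have h1 : n ∣ 1 := by simpa [OrdDiv.prodl] using h
    simp [divs, Nat.dvd_one.1 h1]
  | x :: l, hl, n, h => by
    have h1 : OrdDiv.prodl (x :: l) = x.1 ^ x.2 * OrdDiv.prodl l := by simp [OrdDiv.prodl]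
    rw [h1] at h
    obtain ⟨d1, d2, hd1, hd2, rfl⟩ := (Nat.dvd_mul).1 h
    obtain ⟨i, hi, rfl⟩ := (Nat.dvd_prime_pow (hl x List.mem_cons_self)).1 hd1
    rw [divs, List.mem_flatMap]
    exact ⟨i, List.mem_range.2 (by omega), List.mem_map.2
      ⟨d2, mem_divs (fun y hy => hl y (List.mem_cons_of_mem _ hy)) hd2, rfl⟩⟩

theorem mem_divs_of_valid {l : List (ℕ × ℕ)} {N n : ℕ} (hv : OrdDiv.valid l N = true) (hn : n ∣ N) :
    n ∈ divs l := by
  have h1 := OrdDiv.valid_prime hv
  apply mem_divs h1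
  unfold OrdDiv.valid at hv
  rw [Bool.and_eq_true] at hv
  rwa [beq_iff_eq.1 hv.2]

/-- the orders of the simple sections -/
theorem mem_tbl (OT : OrdDiv.OrderTable.{u})
    (hS : ∀ (X : Type u) [Group X] [Finite X] [IsSimpleGroup X], Cfsg.IsKnownSimple' X)
    {l : List (ℕ × ℕ)} {N : ℕ} (hv : OrdDiv.valid l N = true) {tbl : List ℕ}
    (ht : ((OrdDiv.cands l N).all fun g => tbl.contains (OrdDiv.ordN g)) = true)
    (K : Type u) [Group K] [Finite K] (hK : IsSimpleGroup K) (hna : ¬ ∀ x y : K, x * y = y * x)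
    (hd : Nat.card K ∣ N) : Nat.card K ∈ tbl := by
  by_contra hcon
  obtain ⟨g, hg, -⟩ := OrdDiv.exists_real_filter OT (hS K) hna hv hd (fun o => !tbl.contains o) (by
    simpa using hcon)
  rw [List.mem_filter] at hg
  have h1 := (List.all_eq_true.1 ht) g hg.1
  rw [h1] at hg
  exact absurd hg.2 (by decide)

end Cfsg.Agent.H970.StabNum
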