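import Cfsg.Agent.H221.ClassCount
import Cfsg.Agent.H384.TwoTransRed

/-!
# Second moment of the permutation character of a 2-transitive group (helper970)

* `sum_fix` : `∑ fix g = |G|` (transitive), `sum_fix_sq` : `∑ (fix g - 1)^2 = |G|` (2-transitive);
* `bessel` : `|C| (f - 1)^2 + (n - 1)^2 ≤ |G|` for a set `C` of non-trivial elements with `f` fixed points;
* `cls` : the collection of the conditions for an invariant set.
-/

set_option autoImplicit false

namespace Cfsg.Agent.H970.TwoCount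

open MulAction Cfsg.Agent.H384.TwoTrans Cfsg.Agent.H221.ClassCount

universe u v

variable {G : Type u} {Ω : Type v} [Group G] [MulAction G Ω]

theorem sum_fix_one [Fintype G] [Finite Ω] [Nonempty Ω] [IsPretransitive G Ω] :
    ∑ g : G, (fixedBy Ω g).ncard = Nat.card G := by
  classical
  have := Fintype.ofFinite Ω
  obtain ⟨a⟩ := ‹Nonempty Ω›
  have hC : H221.ClassCount.Inv (Set.univ : Set G) := fun _ _ _ => trivial
  have h := sum_fix (G := G) (Ω := Ω) hC (Set.toFinite _) a
  have h1 : (Set.toFinite (Set.univ : Set G)).toFinset = Finset.univ := by ext; simp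
  rw [h1] at h
  rw [h]
  have h2 : {y ∈ (Set.univ : Set G) | y • a = a}.ncard = Nat.card (stabilizer G a) := by
    rw [← Nat.card_coe_set_eq]
    exact Nat.card_congr (Equiv.subtypeEquivRight fun y => by simp)
  rw [h2, ← index_stabilizer_of_transitive G a, Subgroup.index_mul_card]

/-- `∑ fix g (fix g - 1) = |G|` -/
theorem sum_fix_two [Fintype G] [Finite Ω] [Nontrivial Ω] (h2 : IsMultiplyPretransitive G Ω 2) :
    ∑ g : G, (fixedBy Ω g).ncard * ((fixedBy Ω g).ncard - 1) = Nat.card G := by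
  classical
  have := Fintype.ofFinite Ω
  -- count the triples `(g, a, b)`, `a ≠ b` fixed by `g`
  have h1 : ∀ g : G, (fixedBy Ω g).ncard * ((fixedBy Ω g).ncard - 1) =
      ∑ p ∈ (Finset.univ : Finset Ω).offDiag, if g • p.1 = p.1 ∧ g • p.2 = p.2 then 1 else 0 := by
    intro g
    rw [Finset.sum_ite, Finset.sum_const_zero, add_zero, Finset.sum_const, smul_eq_mul, mul_one]
    have h3 : (((Finset.univ : Finset Ω).offDiag).filter fun p => g • p.1 = p.1 ∧ g • p.2 = p.2) =
        (Finset.univ.filter fun a : Ω => g • a = a).offDiag := by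
      ext p
      simp only [Finset.mem_filter, Finset.mem_offDiag, Finset.mem_univ, true_and]
      tauto
    rw [h3, Finset.offDiag_card]
    have h4 : (fixedBy Ω g).ncard = (Finset.univ.filter fun a : Ω => g • a = a).card := by
      rw [Set.ncard_eq_toFinset_card _ (Set.toFinite _)]
      congr 1
      ext a
      simp
    rw [h4, Nat.mul_sub_one]
  rw [Finset.sum_congr rfl (fun g _ => h1 g), Finset.sum_comm]
  have h5 : ∀ p ∈ (Finset.univ : Finset Ω).offDiag,
      (∑ g : G, if g • p.1 = p.1 ∧ g • p.2 = p.2 then 1 else 0) * (Nat.card Ω * (Nat.card Ω - 1)) = Nat.card G := by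
    rintro ⟨a, b⟩ hp
    have hab : a ≠ b := by simpa using hp
    have h6 : (∑ g : G, if g • a = a ∧ g • b = b then 1 else 0) =
        Nat.card ↥(stabilizer G a ⊓ stabilizer G b) := by
      rw [Finset.sum_ite, Finset.sum_const_zero, add_zero, Finset.sum_const, smul_eq_mul, mul_one,
        Nat.card_eq_fintype_card, Fintype.card_subtype]
      congr 1
      ext g
      simp [Subgroup.mem_inf, mem_stabilizer_iff]
    simp only
    rw [h6]
    have := isPretransitive_of_two h2
    have h7 := card_orbit_mul (G := G) (Ω := Ω) (A := (stabilizer G a)) b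
    have h8 : (orbit (stabilizer G a) b).ncard = Nat.card Ω - 1 := by
      have h9 : orbit (stabilizer G a) b = ({a} : Set Ω)ᶜ := by
        ext x
        rw [Set.mem_compl_iff, Set.mem_singleton_iff]
        constructor
        · rintro ⟨⟨g, hg⟩, rfl⟩ h
          apply hab
          have h2 : g • b = g • a := by rw [hg]; exact h
          exact (smul_left_cancel g h2).symm
        · intro hx
          obtain ⟨g, hg1, hg2⟩ := exists_map h2 hab (Ne.symm hx)
          exact ⟨⟨g, hg1⟩, hg2⟩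
      rw [h9, Set.ncard_compl, Set.ncard_singleton]
    rw [h8] at h7
    have h10 := index_stabilizer_of_transitive G a
    have h11 := Subgroup.index_mul_card (stabilizer G a)
    rw [h10] at h11
    rw [← h11, ← h7]
    ring
  have hn : 2 ≤ Nat.card Ω := Finite.one_lt_card
  have hpos : 0 < Nat.card Ω * (Nat.card Ω - 1) := Nat.mul_pos (by omega) (by omega)
  apply Nat.eq_of_mul_eq_mul_right hpos
  rw [Finset.sum_mul, Finset.sum_congr rfl h5, Finset.sum_const, smul_eq_mul, Finset.offDiag_card,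
    Finset.card_univ, ← Nat.card_eq_fintype_card, mul_comm, Nat.mul_sub_one]

/-- `∑ (fix g - 1) ^ 2 = |G|` -/
theorem sum_sq [Fintype G] [Finite Ω] [Nontrivial Ω] (h2 : IsMultiplyPretransitive G Ω 2) :
    ∑ g : G, (((fixedBy Ω g).ncard : ℤ) - 1) ^ 2 = (Nat.card G : ℤ) := by
  have := isPretransitive_of_two h2
  have h3 := sum_fix_one (G := G) (Ω := Ω)
  have h4 := sum_fix_two h2
  have h5 : ∀ g : G, (((fixedBy Ω g).ncard : ℤ) - 1) ^ 2 =
      (((fixedBy Ω g).ncard * ((fixedBy Ω g).ncard - 1) : ℕ) : ℤ) - ((fixedBy Ω g).ncard : ℤ) + 1 := by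
    intro g
    rcases Nat.eq_zero_or_pos (fixedBy Ω g).ncard with h | h
    · rw [h]; simp
    · push_cast [Nat.cast_sub h]
      ring
  rw [Finset.sum_congr rfl (fun g _ => h5 g), Finset.sum_add_distrib, Finset.sum_sub_distrib, ← Nat.cast_sum,
    ← Nat.cast_sum, h3, h4, Finset.sum_const, Finset.card_univ, ← Nat.card_eq_fintype_card]
  simp

/-- `|C| (f - 1)^2 + (n - 1)^2 ≤ |G|` -/
theorem bessel [Finite G] [Finite Ω] [Nontrivial Ω] (h2 : IsMultiplyPretransitive G Ω 2) {C : Set G}
    (h1 : (1 : G) ∉ C) {f : ℕ} (hf : ∀ y ∈ C, (fixedBy Ω y).ncard = f) :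
    (C.ncard : ℤ) * ((f : ℤ) - 1) ^ 2 + ((Nat.card Ω : ℤ) - 1) ^ 2 ≤ Nat.card G := by
  classical
  have := Fintype.ofFinite G
  rw [← sum_sq h2]
  have hC : C.Finite := Set.toFinite C
  have h3 : (C.ncard : ℤ) * ((f : ℤ) - 1) ^ 2 + ((Nat.card Ω : ℤ) - 1) ^ 2 =
      ∑ g ∈ insert (1 : G) hC.toFinset, (((fixedBy Ω g).ncard : ℤ) - 1) ^ 2 := by
    rw [Finset.sum_insert (by simpa using h1), Finset.sum_congr rfl (g := fun _ => ((f : ℤ) - 1) ^ 2)]
    · rw [Finset.sum_const, ← Set.ncard_eq_toFinset_card C hC]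
      have h4 : (fixedBy Ω (1 : G)).ncard = Nat.card Ω := by
        have : fixedBy Ω (1 : G) = Set.univ := by ext; simp
        rw [this, Set.ncard_univ]
      rw [h4]
      simp only [nsmul_eq_mul]
      ring
    · intro g hg
      rw [hf g (by simpa using hg)]
  rw [h3]
  exact Finset.sum_le_sum_of_subset_of_nonneg (Finset.subset_univ _) fun _ _ _ => sq_nonneg _

/-- the conditions for an invariant set `C` of `c` non-trivial elements with `f` fixed points; `i` is the number of
elements of `C` in a point stabilizer -/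
structure Cls (n c f i M : ℕ) : Prop where
  lt : f < n
  mul : n * i = c * f
  dvd : (n : ℤ) * ((n : ℤ) - 1) ∣ (c : ℤ) * ((n : ℤ) - f)
  le : (c : ℤ) * ((f : ℤ) - 1) ^ 2 + ((n : ℤ) - 1) ^ 2 ≤ M

theorem cls {T : Subgroup G} (A : AS G Ω T) {C : Set G} (hC : H221.ClassCount.Inv C) (h1 : (1 : G) ∉ C) (hne : C.Nonempty) {f : ℕ}
    (hf : ∀ y ∈ C, (fixedBy Ω y).ncard = f) (a : Ω) :
    Cls (Nat.card Ω) C.ncard f {y ∈ C | y • a = a}.ncard (Nat.card G) := by
  have := A.finG
  have := A.finΩ
  have := A.faithful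
  have := A.nontrivialΩ
  have := isPretransitive_of_two A.two
  refine ⟨?_, card_mul_ncard_fix hC a hf, mul_dvd_fix A.two hC hf, bessel A.two h1 hf⟩
  obtain ⟨y, hy⟩ := hne
  have h3 : (fixedBy Ω y).ncard ≤ Nat.card Ω := Set.ncard_le_card _
  rw [← hf y hy]
  refine lt_of_le_of_ne h3 fun h => ?_
  have h4 : fixedBy Ω y = Set.univ := (Set.eq_univ_iff_ncard _).2 h
  have h5 : y = 1 := FaithfulSMul.eq_of_smul_eq_smul (α := Ω) (fun b => by
    have : b ∈ fixedBy Ω y := by rw [h4]; trivial
    rw [one_smul]; exact this)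
  exact h1 (h5 ▸ hy)

/-- computable form -/
def okc (n c f M : ℕ) : Bool :=
  Nat.blt f n && (c * f % n == 0 && (c * (n - f) % (n * (n - 1)) == 0 &&
    Nat.ble (c * (f * f + 1) + (n - 1) * (n - 1)) (M + 2 * c * f)))

theorem Cls.okc {n c f i M M' : ℕ} (h : Cls n c f i M) (hM : M ≤ M') (hn : 0 < n) :
    TwoCount.okc n c f M' = true := by
  unfold TwoCount.okc
  have h1 := h.lt
  rw [Bool.and_eq_true, Bool.and_eq_true, Bool.and_eq_true, Nat.blt_eq, Nat.ble_eq]
  refine ⟨h1, ?_, ?_, ?_⟩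
  · rw [← h.mul]; simp
  · have h2 : n * (n - 1) ∣ c * (n - f) := by
      have h3 := h.dvd
      have h4 : ((n * (n - 1) : ℕ) : ℤ) = (n : ℤ) * ((n : ℤ) - 1) := by push_cast [Nat.cast_sub hn]; ring
      have h5 : ((c * (n - f) : ℕ) : ℤ) = (c : ℤ) * ((n : ℤ) - f) := by push_cast [Nat.cast_sub h1.le]; ring
      rw [← h4, ← h5] at h3
      exact_mod_cast h3
    simpa using Nat.mod_eq_zero_of_dvd h2
  · have h3 := h.le
    have h4 : ((c * (f * f + 1) + (n - 1) * (n - 1) : ℕ) : ℤ) ≤ ((M' + 2 * c * f : ℕ) : ℤ) := by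
      push_cast [Nat.cast_sub hn]
      have : (M : ℤ) ≤ M' := by exact_mod_cast hM
      nlinarith
    exact_mod_cast h4

end Cfsg.Agent.H970.TwoCount
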